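import Cfsg.Agent.Lib.ConwayType.Octad.Model
import Cfsg.Agent.Lib.Golay.M24

/-!
An additive permutation of the model preserving the images of the octads comes from `M24`: on the
functionals it permutes the pairs of points, and two pairs meet when their sum is a pair.
-/

set_option autoImplicit false
set_option maxRecDepth 20000

namespace Cfsg.Agent.ConwayType.Octad.DualAut

open Cfsg Cfsg.Agent.Golay.Basic Cfsg.Agent.ConwayType.Octad.Model
open scoped Pointwise

/-- Additive permutations preserving the octads. -/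
structure IsAut (τ : ℕ → ℕ) : Prop where
  lt : ∀ x < 2048, τ x < 2048
  add : ∀ x < 2048, ∀ y < 2048, τ (x ^^^ y) = τ x ^^^ τ y
  inj : ∀ x < 2048, ∀ y < 2048, τ x = τ y → x = y
  zl : ∀ x ∈ Data.zlist, τ x ∈ Data.zlist

theorem zlist_lt {x : ℕ} (hx : x ∈ Data.zlist) : x < 2048 := by
  rw [← zlist_eq] at hx
  exact List.mem_range.1 (List.mem_filter.1 hx).1

theorem zlist_nodup : Data.zlist.Nodup := zlist_eq ▸ List.nodup_range.filter _

/-- Additive maps agreeing on the powers of two agree. -/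
theorem eq_of_two_pow {α : Type*} {f g : ℕ → α} (op : α → α → α)
    (hf : ∀ x < 2048, ∀ y < 2048, f (x ^^^ y) = op (f x) (f y))
    (hg : ∀ x < 2048, ∀ y < 2048, g (x ^^^ y) = op (g x) (g y))
    (h0 : f 0 = g 0) (h : ∀ i : Fin 11, f (2 ^ i.1) = g (2 ^ i.1)) : ∀ x < 2048, f x = g x := by
  have hL : ∀ L : List ℕ, (∀ b ∈ L, b < 2048 ∧ f b = g b) → ∀ x, enc L x < 2048 ∧ f (enc L x) = g (enc L x) := by
    intro L
    induction L with
    | nil => intro _ x; exact ⟨by simp [enc], by simp [enc, h0]⟩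
    | cons b L ih =>
      intro hb x
      obtain ⟨hl, he⟩ := ih (fun c hc => hb c (List.mem_cons_of_mem _ hc)) (x / 2)
      obtain ⟨hbl, hbe⟩ := hb b List.mem_cons_self
      simp only [enc]
      have h1 : x % 2 * b < 2048 ∧ f (x % 2 * b) = g (x % 2 * b) := by
        rcases Nat.mod_two_eq_zero_or_one x with e | e <;> rw [e]
        · simp [h0]
        · simp [hbl, hbe]
      exact ⟨Nat.xor_lt_two_pow (n := 11) h1.1 hl, by rw [hf _ h1.1 _ hl, hg _ h1.1 _ hl, h1.2, he]⟩
  intro x hx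
  have := (hL [1, 2, 4, 8, 16, 32, 64, 128, 256, 512, 1024] (fun b hb => ?_) x).2
  · rwa [bits_enc ⟨x, hx⟩] at this
  · simp only [List.mem_cons, List.not_mem_nil, or_false] at hb
    rcases hb with rfl | rfl | rfl | rfl | rfl | rfl | rfl | rfl | rfl | rfl | rfl
    exacts [⟨by norm_num, h 0⟩, ⟨by norm_num, h 1⟩, ⟨by norm_num, h 2⟩, ⟨by norm_num, h 3⟩, ⟨by norm_num, h 4⟩,
      ⟨by norm_num, h 5⟩, ⟨by norm_num, h 6⟩, ⟨by norm_num, h 7⟩, ⟨by norm_num, h 8⟩, ⟨by norm_num, h 9⟩,
      ⟨by norm_num, h 10⟩]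

theorem par_two_pow' {f : ℕ} (hf : f < 2048) (i : Fin 11) : par f (2 ^ i.1) = f.testBit i.1 :=
  par_two_pow ⟨f, hf⟩ i

theorem par_zero (f : ℕ) : par f 0 = false := by simp [par, fold]

/-- A functional is determined by its values. -/
theorem eq_of_par {f g : ℕ} (hf : f < 2048) (hg : g < 2048) (h : ∀ x < 2048, par f x = par g x) : f = g := by
  apply Nat.eq_of_testBit_eq
  intro i
  rcases Nat.lt_or_ge i 11 with hi | hi
  · rw [← par_two_pow' hf ⟨i, hi⟩, ← par_two_pow' hg ⟨i, hi⟩]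
    exact h _ (Nat.pow_lt_pow_right (by norm_num) hi |>.trans_le (by norm_num))
  · rw [Nat.testBit_lt_two_pow (hf.trans_le (Nat.pow_le_pow_right (show 2 > 0 by norm_num) hi)),
      Nat.testBit_lt_two_pow (hg.trans_le (Nat.pow_le_pow_right (show 2 > 0 by norm_num) hi))]

/-- The transpose. -/
def dual (τ : ℕ → ℕ) (f : ℕ) : ℕ := Nat.ofBits fun i : Fin 11 => par f (τ (2 ^ i.1))

theorem dual_lt (τ : ℕ → ℕ) (f : ℕ) : dual τ f < 2048 := Nat.ofBits_lt_two_pow _

variable {τ : ℕ → ℕ} (h : IsAut τ)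
include h

theorem tau_zero : τ 0 = 0 := by
  have := h.add 0 (by norm_num) 0 (by norm_num)
  rwa [Nat.xor_self, Nat.xor_self] at this

theorem par_dual (f : ℕ) : ∀ x < 2048, par (dual τ f) x = par f (τ x) := by
  refine eq_of_two_pow (fun a b => a != b) (fun x _ y _ => par_xor_right _ x y)
    (fun x hx y hy => by rw [h.add x hx y hy, par_xor_right]) (by rw [par_zero, tau_zero h, par_zero]) fun i => ?_
  rw [par_two_pow' (dual_lt τ f), dual, Nat.testBit_ofBits_lt _ _ i.2]

theorem dual_xor (f g : ℕ) : dual τ (f ^^^ g) = dual τ f ^^^ dual τ g :=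
  eq_of_par (dual_lt τ _) (Nat.xor_lt_two_pow (n := 11) (dual_lt τ f) (dual_lt τ g)) fun x hx => by
    rw [par_dual h _ x hx, par_xor_left, par_xor_left, par_dual h _ x hx, par_dual h _ x hx]

theorem surj {y : ℕ} (hy : y < 2048) : ∃ x < 2048, τ x = y := by
  obtain ⟨x, hx⟩ := (Finite.injective_iff_surjective (f := fun x : Fin 2048 => (⟨τ x, h.lt x x.2⟩ : Fin 2048))).1
    (fun a b e => Fin.ext (h.inj a a.2 b b.2 (congrArg Fin.val e))) ⟨y, hy⟩
  exact ⟨x, x.2, congrArg Fin.val hx⟩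

theorem dual_inj {f g : ℕ} (hf : f < 2048) (hg : g < 2048) (e : dual τ f = dual τ g) : f = g :=
  eq_of_par hf hg fun y hy => by
    obtain ⟨x, hx, rfl⟩ := surj h hy
    rw [← par_dual h f x hx, ← par_dual h g x hx, e]

theorem cnt_dual (f : ℕ) : cnt (dual τ f) = cnt f := by
  have key : ∀ g : ℕ, cnt g = (Data.zlist.toFinset.filter fun x => par g x = true).card := fun g => by
    have hnd := zlist_nodup
    have hlt : ∀ x ∈ Data.zlist, x < 2048 := fun x hx => zlist_lt hx
    unfold cnt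
    generalize Data.zlist = l at hnd hlt ⊢
    rw [← List.toFinset_card_of_nodup (hnd.filter _)]
    congr 1
    ext x
    simp only [List.mem_toFinset, List.mem_filter, Finset.mem_filter]
    exact and_congr_right fun hx => by rw [parF_eq (hlt _ hx)]
  have him : Data.zlist.toFinset.image τ = Data.zlist.toFinset := by
    have hlt : ∀ x ∈ Data.zlist, x < 2048 := fun x hx => zlist_lt hx
    have hz := h.zl
    generalize Data.zlist = l at hlt hz ⊢
    refine Finset.eq_of_subset_of_card_le (fun y hy => ?_) (le_of_eq (Finset.card_image_of_injOn ?_).symm)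
    · obtain ⟨x, hx, rfl⟩ := Finset.mem_image.1 hy
      exact List.mem_toFinset.2 (hz x (List.mem_toFinset.1 hx))
    · intro x hx y hy e
      exact h.inj x (hlt x (List.mem_toFinset.1 hx)) y (hlt y (List.mem_toFinset.1 hy)) e
  rw [key, key]
  have hl : ∀ x ∈ Data.zlist.toFinset, x < 2048 := fun x hx => zlist_lt (List.mem_toFinset.1 hx)
  generalize Data.zlist.toFinset = s at him hl ⊢
  conv_rhs => rw [← him, Finset.filter_image]
  rw [Finset.card_image_of_injOn fun x hx y hy e => h.inj x (hl x (Finset.mem_filter.1 hx).1)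
    y (hl y (Finset.mem_filter.1 hy).1) e]
  congr 1
  exact Finset.filter_congr fun x hx => by rw [par_dual h f x (hl x hx)]

omit h

/-- The functional of a pair. -/
abbrev dd (a b : Fin 24) : ℕ := row a.1 ^^^ row b.1

theorem dd_lt (a b : Fin 24) : dd a b < 2048 := Nat.xor_lt_two_pow (n := 11) (row_spec a).1 (row_spec b).1

theorem dd_comm (a b : Fin 24) : dd a b = dd b a := Nat.xor_comm _ _

theorem dd_add (a b c : Fin 24) : dd a b ^^^ dd a c = dd b c := by
  unfold dd
  rw [Nat.xor_comm (row a.1) (row b.1), Nat.xor_assoc, Nat.xor_xor_cancel_left]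

theorem dd_pos {a b : Fin 24} (hab : a ≠ b) :
    pairOf (dd a b) ≠ 0 ∧ cnt (dd a b) = 352 := by
  have key : pairOf (dd a b) ≠ 0 := by
    rcases lt_or_gt_of_ne hab with e | e
    · rw [pair_row a b e]; have : a.1 < b.1 := e; omega
    · rw [dd_comm, pair_row b a e]; have : b.1 < a.1 := e; omega
  refine ⟨key, ?_⟩
  have h0 := (pair_spec (dd_lt a b)).1
  rw [beq_iff_eq] at h0
  have : (pairOf (dd a b) == 0) = false := by simpa using key
  rw [this, Bool.not_false, beq_iff_eq] at h0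
  exact h0

/-- The pairs are determined by their functionals. -/
theorem dd_inj {a b c e : Fin 24} (hab : a ≠ b) (hce : c ≠ e) (he : dd a b = dd c e) :
    a = c ∧ b = e ∨ a = e ∧ b = c := by
  have hl := fun {x y : Fin 24} (hxy : x < y) => pair_row x y hxy
  rcases lt_or_gt_of_ne hab with h1 | h1 <;> rcases lt_or_gt_of_ne hce with h2 | h2
  · have h3 := hl h1
    rw [show row a.1 ^^^ row b.1 = dd a b from rfl, he, show dd c e = row c.1 ^^^ row e.1 from rfl, hl h2] at h3
    left; exact ⟨Fin.ext (by omega), Fin.ext (by omega)⟩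
  · have h3 := hl h1
    rw [show row a.1 ^^^ row b.1 = dd a b from rfl, he, dd_comm, show dd e c = row e.1 ^^^ row c.1 from rfl, hl h2] at h3
    right; exact ⟨Fin.ext (by omega), Fin.ext (by omega)⟩
  · have h3 := hl h1
    rw [show row b.1 ^^^ row a.1 = dd b a from rfl, dd_comm, he, show dd c e = row c.1 ^^^ row e.1 from rfl, hl h2] at h3
    right; exact ⟨Fin.ext (by omega), Fin.ext (by omega)⟩
  · have h3 := hl h1
    rw [show row b.1 ^^^ row a.1 = dd b a from rfl, dd_comm, he, dd_comm, show dd e c = row e.1 ^^^ row c.1 from rfl, hl h2] at h3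
    left; exact ⟨Fin.ext (by omega), Fin.ext (by omega)⟩

/-- Two disjoint pairs do not add to a pair. -/
theorem dd_disjoint {a b c e : Fin 24} (h1 : a ≠ b) (h2 : c ≠ e) (h3 : a ≠ c) (h4 : a ≠ e) (h5 : b ≠ c)
    (h6 : b ≠ e) {x y : Fin 24} (hxy : x ≠ y) : dd a b ^^^ dd c e ≠ dd x y := by
  intro he
  refine (dd_pos hxy).1 ?_
  rw [← he]
  wlog hab : a < b generalizing a b
  · rw [dd_comm a b]; exact this h1.symm h5 h6 h3 h4 (by rwa [dd_comm b a]) (lt_of_le_of_ne (not_lt.1 hab) h1.symm)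
  wlog hce : c < e generalizing c e
  · rw [dd_comm c e]; exact this h2.symm h4 h3 h6 h5 (by rwa [dd_comm e c]) (lt_of_le_of_ne (not_lt.1 hce) h2.symm)
  rcases lt_or_gt_of_ne h3 with hac | hac
  · exact pair_disjoint a b c e hab hce hac h5 h6
  · rw [Nat.xor_comm]; exact pair_disjoint c e a b hce hab hac h4.symm h6.symm

include h

theorem image_pair {a b : Fin 24} (hab : a ≠ b) : ∃ c e : Fin 24, c ≠ e ∧ dual τ (dd a b) = dd c e := by
  obtain ⟨hs, hp⟩ := pair_spec (dual_lt τ (dd a b))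
  rw [cnt_dual h, (dd_pos hab).2] at hs
  set p := pairOf (dual τ (dd a b)) with hp0
  have hne : p ≠ 0 := fun e0 => by rw [e0] at hs; simp at hs
  obtain ⟨h1, h2, h3⟩ := hp.resolve_left hne
  exact ⟨⟨p / 32, by omega⟩, ⟨p % 32, h2⟩, fun e0 => by have := congrArg Fin.val e0; simp at this; omega, h3.symm⟩

/-- The image of a point. -/
theorem exists_point (a : Fin 24) : ∃ p : Fin 24, ∀ b, b ≠ a → ∃ x, x ≠ p ∧ dual τ (dd a b) = dd p x := by
  obtain ⟨b0, c0, hb0, hc0, hbc⟩ : ∃ b c : Fin 24, b ≠ a ∧ c ≠ a ∧ b ≠ c := by revert a; decide +kernel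
  obtain ⟨p1, x1, hp1, e1⟩ := image_pair h hb0.symm
  obtain ⟨p2, x2, hp2, e2⟩ := image_pair h hc0.symm
  have meet : ∀ {b c : Fin 24}, b ≠ a → c ≠ a → b ≠ c → ∀ {p x q y : Fin 24}, p ≠ x → q ≠ y →
      dual τ (dd a b) = dd p x → dual τ (dd a c) = dd q y → p = q ∨ p = y ∨ x = q ∨ x = y := by
    intro b c hb hc hbc p x q y hpx hqy hb' hc'
    by_contra hcon
    simp only [not_or] at hcon
    obtain ⟨u, v, huv, e3⟩ := image_pair h hbc
    refine dd_disjoint hpx hqy hcon.1 hcon.2.1 hcon.2.2.1 hcon.2.2.2 huv ?_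
    rw [← hb', ← hc', ← dual_xor h, dd_add, e3]
  obtain ⟨p, x, y, hpx, hpy, ex, ey⟩ : ∃ p x y, p ≠ x ∧ p ≠ y ∧ dual τ (dd a b0) = dd p x ∧
      dual τ (dd a c0) = dd p y := by
    rcases meet hb0 hc0 hbc hp1 hp2 e1 e2 with e | e | e | e
    · exact ⟨p1, x1, x2, hp1, e ▸ hp2, e1, e ▸ e2⟩
    · exact ⟨p1, x1, p2, hp1, e ▸ hp2.symm, e1, by rw [e2, dd_comm, e]⟩
    · exact ⟨x1, p1, x2, hp1.symm, e ▸ hp2, by rw [e1, dd_comm], e ▸ e2⟩
    · exact ⟨x1, p1, p2, hp1.symm, e ▸ hp2.symm, by rw [e1, dd_comm], by rw [e2, dd_comm, e]⟩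
  have hxy : x ≠ y := by
    rintro rfl
    rcases dd_inj hb0.symm hc0.symm (dual_inj h (dd_lt a b0) (dd_lt a c0) (ex.trans ey.symm)) with
      ⟨-, e⟩ | ⟨e, -⟩
    · exact hbc e
    · exact hc0 e.symm
  refine ⟨p, fun b hb => ?_⟩
  by_cases h1 : b = b0
  · exact ⟨x, hpx.symm, h1 ▸ ex⟩
  by_cases h2 : b = c0
  · exact ⟨y, hpy.symm, h2 ▸ ey⟩
  obtain ⟨q, w, hqw, eb⟩ := image_pair h hb.symm
  by_cases hq : q = p
  · exact ⟨w, hq ▸ hqw.symm, hq ▸ eb⟩
  by_cases hw : w = p
  · exact ⟨q, hw ▸ hqw, by rw [eb, dd_comm, hw]⟩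
  exfalso
  have hA := (meet hb hb0 h1 hqw hpx eb ex)
  have hB := (meet hb hc0 h2 hqw hpy eb ey)
  have hpair : q = x ∧ w = y ∨ q = y ∧ w = x := by
    rcases hA with e | e | e | e
    · exact absurd e hq
    · rcases hB with e' | e' | e' | e'
      · exact absurd e' hq
      · exact absurd (e.symm.trans e') hxy
      · exact absurd e' hw
      · exact Or.inl ⟨e, e'⟩
    · exact absurd e hw
    · rcases hB with e' | e' | e' | e'
      · exact absurd e' hq
      · exact Or.inr ⟨e', e⟩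
      · exact absurd e' hw
      · exact absurd (e.symm.trans e') hxy
  have hd : dual τ (dd a b) = dd x y := by
    rcases hpair with ⟨e, e'⟩ | ⟨e, e'⟩ <;> rw [eb, e, e']
    exact dd_comm _ _
  rw [← dd_add p x y, ← ex, ← ey, ← dual_xor h, dd_add] at hd
  rcases dd_inj hb.symm hbc (dual_inj h (dd_lt a b) (dd_lt b0 c0) hd) with ⟨e, -⟩ | ⟨e, -⟩
  · exact hb0 e.symm
  · exact hc0 e.symm

/-- The map on points. -/
noncomputable def sig (a : Fin 24) : Fin 24 := (exists_point h a).choose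

theorem sig_spec {a b : Fin 24} (hab : b ≠ a) : ∃ x, x ≠ sig h a ∧ dual τ (dd a b) = dd (sig h a) x :=
  (exists_point h a).choose_spec b hab

theorem sig_inj : Function.Injective (sig h) := by
  intro a a' e
  by_contra hne
  obtain ⟨b, hba, hba'⟩ : ∃ b, b ≠ a ∧ b ≠ a' := by
    exact (by decide +kernel : ∀ a a' : Fin 24, ∃ b, b ≠ a ∧ b ≠ a') a a'
  obtain ⟨x, hx, e1⟩ := sig_spec h (Ne.symm hne)
  obtain ⟨y, hy, e2⟩ := sig_spec h hba
  obtain ⟨w, hw, e3⟩ := sig_spec h hba'
  have hxy : x ≠ y := by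
    rintro rfl
    rcases dd_inj hne hba.symm (dual_inj h (dd_lt a a') (dd_lt a b) (e1.trans e2.symm)) with ⟨-, e0⟩ | ⟨e0, -⟩
    · exact hba' e0.symm
    · exact hba e0.symm
  rw [← e] at hw e3
  have hd : dual τ (dd a' b) = dd x y := by rw [← dd_add a a' b, dual_xor h, e1, e2, dd_add]
  rw [e3] at hd
  rcases dd_inj hw.symm hxy hd with ⟨e0, -⟩ | ⟨e0, -⟩
  · exact hx e0.symm
  · exact hy e0.symm

theorem dual_dd (a b : Fin 24) : dual τ (dd a b) = dd (sig h a) (sig h b) := by
  by_cases hab : a = b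
  · subst hab
    refine eq_of_par (dual_lt τ _) (dd_lt _ _) fun x hx => ?_
    rw [par_dual h _ x hx]
    simp [dd, par, fold]
  obtain ⟨x, hx, e1⟩ := sig_spec h (Ne.symm hab)
  obtain ⟨y, hy, e2⟩ := sig_spec h hab
  have e3 : dd (sig h a) x = dd (sig h b) y := by rw [← e1, dd_comm, e2]
  rcases dd_inj hx.symm hy.symm e3 with ⟨e0, -⟩ | ⟨-, e0⟩
  · exact absurd (sig_inj h e0) hab
  · rw [e1, e0]

omit h

/-- The numbering of the points. -/
def ptE : Fin 24 ≃ GolayPt where
  toFun i := pt i.1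
  invFun p := ⟨ix p, ix_lt p⟩
  left_inv i := Fin.ext (ix_pt i.2)
  right_inv p := pt_ix p

include h

/-- The permutation of the points. -/
noncomputable def perm : Equiv.Perm GolayPt :=
  ptE.permCongr (Equiv.ofBijective (sig h) (Finite.injective_iff_bijective.1 (sig_inj h))).symm

theorem perm_symm (p : GolayPt) : (perm h)⁻¹ p = ptE (sig h (ptE.symm p)) := by
  show (ptE.permCongr (Equiv.ofBijective (sig h) _).symm).symm p = _
  rfl

theorem eta_tau {x : ℕ} (hx : x < 2048) :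
    perm h • maskSet (eta x) = maskSet (eta (τ x)) ∨ perm h • maskSet (eta x) = (maskSet (eta (τ x)))ᶜ := by
  set c := ((eta (τ x)).testBit 0 != (eta x).testBit (sig h 0).1) with hc
  have key : ∀ a : Fin 24, ((eta (τ x)).testBit a.1 != (eta x).testBit (sig h a).1) = c := by
    intro a
    have e : par (dual τ (dd a 0)) x = par (dd (sig h a) (sig h 0)) x := by rw [dual_dd h a 0]
    rw [par_dual h _ x hx] at e
    unfold dd at e
    rw [par_xor_left, par_xor_left, (row_spec a).2 ⟨τ x, h.lt x hx⟩, (row_spec 0).2 ⟨τ x, h.lt x hx⟩,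
      (row_spec (sig h a)).2 ⟨x, hx⟩, (row_spec (sig h 0)).2 ⟨x, hx⟩] at e
    rw [hc]
    revert e
    simp only [Fin.val_zero]
    cases (eta (τ x)).testBit a.1 <;> cases (eta (τ x)).testBit 0 <;>
      cases (eta x).testBit (sig h a).1 <;> cases (eta x).testBit (sig h 0).1 <;> decide
  have hmem : ∀ p, p ∈ perm h • maskSet (eta x) ↔ (eta x).testBit (sig h (ptE.symm p)).1 = true := by
    intro p
    rw [← Finset.inv_smul_mem_iff, Equiv.Perm.smul_def, perm_symm h, mem_maskSet]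
    show (eta x).testBit (ix (pt _)) = true ↔ _
    rw [ix_pt (Fin.isLt _)]
  have hval : ∀ p, (eta (τ x)).testBit (ix p) = ((eta x).testBit (sig h (ptE.symm p)).1 != c) := by
    intro p
    have := key (ptE.symm p)
    show (eta (τ x)).testBit (ptE.symm p).1 = _
    revert this
    cases (eta (τ x)).testBit (ptE.symm p).1 <;> cases (eta x).testBit (sig h (ptE.symm p)).1 <;> cases c <;> decide
  cases hcv : c
  · left
    ext p
    rw [hmem, mem_maskSet, hval, hcv]
    simp
  · right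
    ext p
    rw [hmem, Finset.mem_compl, mem_maskSet, hval, hcv]
    simp

theorem perm_mem : perm h ∈ M24 := by
  refine Cfsg.Agent.Golay.M24.mem_M24_of_basis fun b hb => ?_
  obtain ⟨i, hi, rfl⟩ := List.getElem_of_mem hb
  obtain ⟨hx, he⟩ := basis_pre ⟨i, hi⟩
  simp only [List.getD_eq_getElem _ 0 hi] at he
  set x := Data.pre.getD i 0
  have hc : ∀ {s : Finset GolayPt}, s ∈ supports (golayCode : Set (GolayPt → ZMod 2)) →
      sᶜ ∈ supports (golayCode : Set (GolayPt → ZMod 2)) := fun {s} hs => by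
    rw [mem_supports_iff, mask_compl]
    exact isCode_xor (mem_supports_iff.1 hs) full_code
  have hcode : maskSet (eta (τ x)) ∈ supports (golayCode : Set (GolayPt → ZMod 2)) := by
    rw [mem_supports_iff, mask_maskSet (eta_code ⟨τ x, h.lt x hx⟩).2.1]
    exact (eta_code ⟨τ x, h.lt x hx⟩).1
  have h1 : perm h • maskSet (eta x) ∈ supports (golayCode : Set (GolayPt → ZMod 2)) := by
    rcases eta_tau h hx with e | e <;> rw [e]
    · exact hcode
    · exact hc hcode
  rcases he with e | e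
  · rwa [← e]
  · have hb' : maskSet basisMasks[i] = (maskSet (eta x))ᶜ := by
      rw [e]
      ext p
      simp only [Finset.mem_compl, mem_maskSet, Nat.testBit_xor,
        (by decide +kernel : ∀ p : GolayPt, Nat.testBit 16777215 (ix p) = true) p]
      cases (basisMasks[i]).testBit (ix p) <;> simp
    have hsc : ∀ s : Finset GolayPt, perm h • sᶜ = (perm h • s)ᶜ := fun s => by
      ext p
      rw [Finset.mem_compl, ← Finset.inv_smul_mem_iff, ← Finset.inv_smul_mem_iff, Finset.mem_compl]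
    rw [hb', hsc]
    exact hc h1

omit h

theorem sig_unique {τ' : ℕ → ℕ} (h : IsAut τ') {f : Fin 24 → Fin 24} (hf : Function.Injective f)
    (he : ∀ a b, dual τ' (dd a b) = dd (f a) (f b)) : sig h = f := by
  funext a
  obtain ⟨b, c, hb, hc, hbc⟩ : ∃ b c : Fin 24, b ≠ a ∧ c ≠ a ∧ b ≠ c := by revert a; decide +kernel
  have h1 := (dual_dd h a b).symm.trans (he a b)
  have h2 := (dual_dd h a c).symm.trans (he a c)
  have hsi := sig_inj h
  rcases dd_inj (fun e => hb (hsi e).symm) (fun e => hb (hf e).symm) h1 with ⟨e, -⟩ | ⟨e, -⟩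
  · exact e
  rcases dd_inj (fun e => hc (hsi e).symm) (fun e => hc (hf e).symm) h2 with ⟨e', -⟩ | ⟨e', -⟩
  · exact e'
  · exact absurd (hf (e.symm.trans e')) hbc

theorem perm_comp {τ' σ : ℕ → ℕ} (h : IsAut τ) (h' : IsAut τ') (hσ : IsAut σ)
    (e : ∀ x < 2048, σ x = τ (τ' x)) : perm hσ = perm h * perm h' := by
  have hs : sig hσ = sig h' ∘ sig h := by
    refine sig_unique hσ ((sig_inj h').comp (sig_inj h)) fun a b => ?_
    rw [Function.comp_apply, Function.comp_apply, ← dual_dd h', ← dual_dd h]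
    refine eq_of_par (dual_lt _ _) (dual_lt _ _) fun x hx => ?_
    rw [par_dual hσ _ x hx, par_dual h' _ x hx, par_dual h _ _ (h'.lt x hx), e x hx]
  apply inv_injective
  ext p
  rw [mul_inv_rev, Equiv.Perm.mul_apply, perm_symm hσ, perm_symm h', perm_symm h, hs]
  simp

theorem tau_eq_of_perm (h : IsAut τ) (e : perm h = 1) {x : ℕ} (hx : x < 2048) : τ x = x := by
  have hy : τ x ^^^ x < 2048 := Nat.xor_lt_two_pow (n := 11) (h.lt x hx) hx
  by_contra hne
  have hy0 : τ x ^^^ x ≠ 0 := fun e0 => hne (Nat.xor_eq_zero_iff.1 e0)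
  obtain ⟨hn0, hn1⟩ := (eta_code ⟨_, hy⟩).2.2 hy0
  have hxor : eta (τ x ^^^ x) = eta (τ x) ^^^ eta x := enc_xor _ _ _
  rw [show (⟨τ x ^^^ x, hy⟩ : Fin 2048).1 = τ x ^^^ x from rfl, hxor] at hn0 hn1
  have hb := (eta_code ⟨τ x, h.lt x hx⟩).2.1
  have hb' := (eta_code ⟨x, hx⟩).2.1
  have h2 := eta_tau h hx
  rw [e, one_smul] at h2
  rcases h2 with e' | e'
  · exact hn0 (by
      have := congrArg mask e'
      rw [mask_maskSet hb, mask_maskSet hb'] at this
      rw [this, Nat.xor_self])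
  · exact hn1 (by
      have := congrArg mask e'
      rw [mask_compl, mask_maskSet hb, mask_maskSet hb'] at this
      rw [this, Nat.xor_xor_cancel_left])

end Cfsg.Agent.ConwayType.Octad.DualAut
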