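import Cfsg.Agent.Lib.ConwayType.Octad.Sub

/-!
A subgroup of order `2^10` meeting the subgroup of order `2^11` trivially.
-/

set_option autoImplicit false
set_option maxRecDepth 20000

namespace Cfsg.Agent.ConwayType.Octad

open Subgroup Cfsg.Agent.LargeExtra Cfsg.Agent.OctadInv.Orbits

/-- The second transvection on the indices. -/
def fC (i : Fin 64) : Fin 64 := fA (fB (fA (fA i)))

/-- The images of the six unit indices under the eight words in the two transvections. -/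
def W8T : Fin 8 → Fin 6 → Fin 64 :=
  ![![1, 2, 4, 8, 16, 32], ![5, 2, 4, 10, 16, 32], ![1, 2, 20, 8, 16, 40], ![5, 2, 20, 10, 16, 42],
    ![21, 2, 20, 10, 16, 40], ![17, 2, 20, 8, 16, 42], ![21, 2, 4, 10, 16, 34], ![17, 2, 4, 8, 16, 34]]

/-- The eight words in the two transvections, on the indices. -/
def W8 (v : Fin 8) (i : Fin 64) : Fin 64 :=
  (if i.1.testBit 0 then W8T v 0 else 0) ^^^ (if i.1.testBit 1 then W8T v 1 else 0) ^^^
    (if i.1.testBit 2 then W8T v 2 else 0) ^^^ (if i.1.testBit 3 then W8T v 3 else 0) ^^^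
    (if i.1.testBit 4 then W8T v 4 else 0) ^^^ (if i.1.testBit 5 then W8T v 5 else 0)

/-- Left multiplication by the transvections on the eight words. -/
def nB : Fin 8 → Fin 8 := ![1, 0, 3, 2, 5, 4, 7, 6]

/-- Left multiplication by the second transvection on the eight words. -/
def nC : Fin 8 → Fin 8 := ![2, 4, 0, 6, 1, 7, 3, 5]

/-- The six unit indices. -/
def unitI : Fin 6 → Fin 64 := ![1, 2, 4, 8, 16, 32]

theorem W8_one : ∀ i, W8 0 i = i := by decide +kernel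

theorem W8_nB : ∀ v : Fin 8, ∀ i, fB (W8 v i) = W8 (nB v) i := by decide +kernel

theorem W8_nC : ∀ v : Fin 8, ∀ i, fC (W8 v i) = W8 (nC v) i := by decide +kernel

theorem W8_sep : ∀ v w : Fin 8, (∀ j, W8 v (unitI j) = W8 w (unitI j)) → v = w := by decide +kernel

theorem W8_wf : ∀ v n : Fin 8, (∀ j, W8 v (unitI j) = wf n.1 (unitI j)) → v = 0 := by decide +kernel

theorem transvection_facts : fh 32 = 16 ∧ fA (fA 2) = 32 ∧ fA 32 = 2 := by decide +kernel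

/-- The indices of the opposite plane from three bits. -/
def qI (v : ℕ) : Fin 64 :=
  (if v.testBit 0 then 2 else 0) ^^^ (if v.testBit 1 then 8 else 0) ^^^ (if v.testBit 2 then 32 else 0)

theorem qI_zero : ∀ v : Fin 8, (∀ j : Fin 3, bf (ww (qI v.1)) (ww (eI j)) = 0) → v = 0 := by decide +kernel

variable {G : Type*} [Group G] [Finite G] {Q Q' : Subgroup G} {z a : G} {S : St Q Q' z a} {d : Gen S}

namespace Oct

variable (o : Oct d)

/-- The second transvection. -/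
noncomputable def gC : G := o.gA * o.gB * o.gA⁻¹

/-- The six commuting involutions. -/
noncomputable def Lx : List G :=
  [o.kx 0, o.kx 1, o.kx 2, d.s * o.kx 0 * d.s, d.s * o.kx 1 * d.s, d.s * o.kx 2 * d.s]

theorem hC : d.Hb fC o.gC := hb_congr o.hgA' fun _ => rfl

theorem gC2 : o.gC * o.gC = 1 := by
  rw [gC, conj_mul, o.gB2, mul_one, mul_inv_cancel]

theorem gC_inv : o.gC⁻¹ = o.gC := inv_eq_of_mul_eq_one_right o.gC2

theorem isElem_x : IsElem o.Lx := by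
  have hc : ∀ i, S.Core (o.kx i) := fun i => (d.rep_core (o.kx_rep i)).1
  have h1 : ∀ i j, o.kx i * o.kx j = o.kx j * o.kx i := o.kx_comm
  have h3 : ∀ i j, d.s * o.kx i * d.s * (d.s * o.kx j * d.s) = d.s * o.kx j * d.s * (d.s * o.kx i * d.s) :=
    fun i j => by rw [← d.s_conj, o.kx_comm, d.s_conj]
  have h2 : ∀ i j, o.kx i * (d.s * o.kx j * d.s) = d.s * o.kx j * d.s * o.kx i := fun i j => by
    obtain ⟨ci, hk, hp⟩ := d.rep_core (o.kx_rep i)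
    obtain ⟨cj, hk', hp'⟩ := d.rep_core (o.kx_rep j)
    refine (S.core_comm_iff d.hs ci (d.core_s cj)).2 ?_
    rw [d.kap_s, d.par_s, hk, hp, hk', hp', bf_zero_left, bf_zero_left, bf_zero_right,
      plane_facts.2.2.2.2.1]
    exact ⟨rfl, rfl⟩
  have hs : ∀ i, d.s * o.kx i * d.s * (d.s * o.kx i * d.s) = 1 := fun i => by
    rw [← d.s_conj, o.kx_sq, mul_one, d.hss]
  refine ⟨fun b hb => ?_, fun b hb c hc' => ?_⟩
  · simp only [Lx, List.mem_cons, List.not_mem_nil, or_false] at hb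
    rcases hb with rfl | rfl | rfl | rfl | rfl | rfl <;> first | apply o.kx_sq | apply hs
  · simp only [Lx, List.mem_cons, List.not_mem_nil, or_false] at hb hc'
    rcases hb with rfl | rfl | rfl | rfl | rfl | rfl <;> rcases hc' with rfl | rfl | rfl | rfl | rfl | rfl <;>
      first | apply h1 | apply h3 | apply h2 | exact (h2 _ _).symm

/-- The parameters of the products. -/
theorem x_ev (m : ℕ) : S.Core (ev o.Lx m) ∧ S.kap d.s (ev o.Lx m) = ww (qI m) ∧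
    S.par (ev o.Lx m) = ww (qI (m / 8)) := by
  have hk : ∀ i : Fin 3, S.Core (o.kx i) ∧ S.kap d.s (o.kx i) = ww (dI i) ∧ S.par (o.kx i) = ww 0 :=
    fun i => ⟨(d.rep_core (o.kx_rep i)).1, (d.rep_core (o.kx_rep i)).2.1,
      by rw [(d.rep_core (o.kx_rep i)).2.2, ww_zero]⟩
  have hsk : ∀ i : Fin 3, S.Core (d.s * o.kx i * d.s) ∧ S.kap d.s (d.s * o.kx i * d.s) = ww 0 ∧
      S.par (d.s * o.kx i * d.s) = ww (dI i) :=
    fun i => ⟨d.core_s (hk i).1, by rw [d.kap_s, (hk i).2.2], by rw [d.par_s, (hk i).2.1]⟩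
  have hmul : ∀ {x y : G} {i j k l : Fin 64}, (S.Core x ∧ S.kap d.s x = ww i ∧ S.par x = ww j) →
      (S.Core y ∧ S.kap d.s y = ww k ∧ S.par y = ww l) →
      S.Core (x * y) ∧ S.kap d.s (x * y) = ww (i ^^^ k) ∧ S.par (x * y) = ww (j ^^^ l) := by
    intro x y i j k l hx hy
    exact ⟨S.core_mul hx.1 hy.1, by rw [S.kap_mul d.hs hx.1 hy.1.1, hx.2.1, hy.2.1, ww_xor],
      by rw [S.par_core_mul hx.1 hy.1.1, hx.2.2, hy.2.2, ww_xor]⟩
  have hpow : ∀ {x : G} {i j : Fin 64} (k : ℕ), (S.Core x ∧ S.kap d.s x = ww i ∧ S.par x = ww j) →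
      S.Core (x ^ (m / 2 ^ k % 2)) ∧ S.kap d.s (x ^ (m / 2 ^ k % 2)) = ww (if m.testBit k then i else 0) ∧
        S.par (x ^ (m / 2 ^ k % 2)) = ww (if m.testBit k then j else 0) := by
    intro x i j k hx
    rw [Nat.testBit_eq_decide_div_mod_eq]
    rcases Nat.mod_two_eq_zero_or_one (m / 2 ^ k) with e | e <;> rw [e]
    · rw [if_neg (by simp), if_neg (by simp), pow_zero, ww_zero]
      have hc : S.Core (1 : G) := S.core_q Q.one_mem (by rw [S.F.vec_one]; rfl)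
      exact ⟨hc, by rw [S.kap_q d.hs Q.one_mem (by rw [S.F.vec_one]; rfl), S.F.vec_one, pw_zero], S.par_q Q.one_mem⟩
    · rw [if_pos (by simp), if_pos (by simp), pow_one]; exact hx
  have h := hmul (hpow 0 (hk 0)) (hmul (hpow 1 (hk 1)) (hmul (hpow 2 (hk 2)) (hmul (hpow 3 (hsk 0))
    (hmul (hpow 4 (hsk 1)) (hpow 5 (hsk 2))))))
  simp only [ite_self, show ∀ i : Fin 64, i ^^^ 0 = i by decide +kernel,
    show ∀ i : Fin 64, (0 : Fin 64) ^^^ i = i by decide +kernel] at h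
  have e8 : ∀ k, (m / 8).testBit k = m.testBit (k + 3) := fun k => by
    rw [show m / 8 = m >>> 3 by rw [Nat.shiftRight_eq_div_pow], Nat.testBit_shiftRight, add_comm]
  have hassoc : ∀ i j k : Fin 64, i ^^^ (j ^^^ k) = i ^^^ j ^^^ k := fun i j k => by
    apply ww_inj
    rw [← ww_xor, ← ww_xor, ← ww_xor, ← ww_xor, add_assoc]
  convert h using 3
  · simp [Lx, ev, Nat.div_div_eq_div_mul]
  · simp [Lx, ev, Nat.div_div_eq_div_mul]
  · simp [qI, hassoc, dI]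
  · simp [Lx, ev, Nat.div_div_eq_div_mul]
  · simp [qI, hassoc, dI, e8]

/-- Only the trivial product lies in the subgroup of order `2^11`. -/
theorem x_inter {m : ℕ} (hm : m < 64) (hA : ev o.Lx m ∈ o.A) : m = 0 := by
  obtain ⟨hc, hk, hp⟩ := o.x_ev m
  have hperp : ∀ i, bf (S.par (ev o.Lx m)) (ww (eI i)) = 0 ∧ bf (S.kap d.s (ev o.Lx m)) (ww (eI i)) = 0 := fun i => by
    obtain ⟨hc', hκ, hπ⟩ := d.rep_core (o.ke_rep i)
    obtain ⟨e1, e2⟩ := (S.core_comm_iff d.hs hc hc').1 (o.comm_A hA (o.ke_mem i))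
    rw [hκ, hπ, bf_zero_right] at e1 e2
    rw [bf_zero_right, add_zero, add_zero] at e2
    rw [e2, add_zero, add_zero] at e1
    exact ⟨e2, e1⟩
  have e8 : ∀ k : ℕ, k < 3 → (m % 8).testBit k = m.testBit k := fun k hk => by
    rw [show (8 : ℕ) = 2 ^ 3 from rfl, Nat.testBit_mod_two_pow]; simp [hk]
  have em : qI (m % 8) = qI m := by
    simp only [qI, e8 0 (by norm_num), e8 1 (by norm_num), e8 2 (by norm_num)]
  have h1 := qI_zero ⟨m % 8, Nat.mod_lt _ (by norm_num)⟩ fun j => by rw [em, ← hk]; exact (hperp j).2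
  have h2 := qI_zero ⟨m / 8, by omega⟩ fun j => by rw [← hp]; exact (hperp j).1
  rw [Fin.ext_iff] at h1 h2
  simp only [Fin.val_zero] at h1 h2
  omega

/-- Fixing of the outer representatives by the first transvection. -/
theorem gB_kx : o.gB * o.kx 0 * o.gB⁻¹ = o.kx 0 ∧ o.gB * o.kx 1 * o.gB⁻¹ = o.kx 0 * o.kx 1 ∧
    ∀ {k : G}, d.Rep 32 k → o.gB * k * o.gB⁻¹ = k := by
  have hdef : o.kx 0 = o.gB * o.kx 1 * o.gB⁻¹ * o.kx 1 := rfl
  refine ⟨?_, ?_, fun {k} hk => ?_⟩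
  · have hinv : o.gB * o.kx 0 * o.gB⁻¹ * o.kx 0 = 1 := by
      rw [hdef, o.gB_inv]
      calc o.gB * (o.gB * o.kx 1 * o.gB * o.kx 1) * o.gB * (o.gB * o.kx 1 * o.gB * o.kx 1)
          = (o.gB * o.gB) * o.kx 1 * o.gB * o.kx 1 * (o.gB * o.gB) * o.kx 1 * o.gB * o.kx 1 := by group
        _ = o.kx 1 * o.gB * (o.kx 1 * o.kx 1) * o.gB * o.kx 1 := by rw [o.gB2]; group
        _ = o.kx 1 * (o.gB * o.gB) * o.kx 1 := by rw [o.kx_sq]; group
        _ = 1 := by rw [o.gB2, mul_one, o.kx_sq]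
    rw [← inv_inv (o.gB * o.kx 0 * o.gB⁻¹), inv_eq_of_mul_eq_one_right hinv]
    exact inv_eq_of_mul_eq_one_right (o.kx_sq 0)
  · rw [hdef, mul_assoc (o.gB * o.kx 1 * o.gB⁻¹), o.kx_sq, mul_one]
  · have hh : o.hh⁻¹ = o.hh := inv_eq_of_mul_eq_one_right o.hh2
    have hx := d.rep_conj o.hH hk
    rw [hh, transvection_facts.1] at hx
    have h2 := o.fix_plane 2 (by decide +kernel) hx
    have hr : o.r2⁻¹ = o.r2 := o.r_inv 2
    rw [show o.r 2 = o.r2 from rfl, hr] at h2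
    rw [o.gB_inv]
    calc o.gB * k * o.gB = o.hh * (o.r2 * (o.hh * k * o.hh) * o.r2) * o.hh := by rw [gB]; group
      _ = o.hh * (o.hh * k * o.hh) * o.hh := by rw [h2]
      _ = (o.hh * o.hh) * k * (o.hh * o.hh) := by group
      _ = k := by rw [o.hh2, one_mul, mul_one]

theorem gC_kx : o.gC * o.kx 0 * o.gC⁻¹ = o.kx 0 ∧ o.gC * o.kx 1 * o.gC⁻¹ = o.kx 1 ∧
    o.gC * o.kx 2 * o.gC⁻¹ = o.kx 1 * o.kx 2 := by
  have hdef : o.kx 1 = o.gC * o.kx 2 * o.gC⁻¹ * o.kx 2 := rfl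
  refine ⟨?_, ?_, ?_⟩
  · have hx := d.rep_conj o.hA' (o.kx_rep 0)
    rw [inv_inv, Function.comp_apply, show dI 0 = 2 from rfl, transvection_facts.2.1] at hx
    have h := o.gB_kx.2.2 hx
    calc o.gC * o.kx 0 * o.gC⁻¹ = o.gA * (o.gB * (o.gA⁻¹ * o.kx 0 * o.gA) * o.gB⁻¹) * o.gA⁻¹ := by rw [gC]; group
      _ = _ := by rw [h]; group
  · have hinv : o.gC * o.kx 1 * o.gC⁻¹ * o.kx 1 = 1 := by
      rw [hdef, o.gC_inv]
      calc o.gC * (o.gC * o.kx 2 * o.gC * o.kx 2) * o.gC * (o.gC * o.kx 2 * o.gC * o.kx 2)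
          = (o.gC * o.gC) * o.kx 2 * o.gC * o.kx 2 * (o.gC * o.gC) * o.kx 2 * o.gC * o.kx 2 := by group
        _ = o.kx 2 * o.gC * (o.kx 2 * o.kx 2) * o.gC * o.kx 2 := by rw [o.gC2]; group
        _ = o.kx 2 * (o.gC * o.gC) * o.kx 2 := by rw [o.kx_sq]; group
        _ = 1 := by rw [o.gC2, mul_one, o.kx_sq]
    rw [← inv_inv (o.gC * o.kx 1 * o.gC⁻¹), inv_eq_of_mul_eq_one_right hinv]
    exact inv_eq_of_mul_eq_one_right (o.kx_sq 1)
  · rw [hdef, mul_assoc (o.gC * o.kx 2 * o.gC⁻¹), o.kx_sq, mul_one]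

/-- The products of the six involutions. -/
noncomputable def E6 : Subgroup G where
  carrier := {x | ∃ m < 64, x = ev o.Lx m}
  one_mem' := ⟨0, by norm_num, (ev_zero _).symm⟩
  mul_mem' := by
    rintro _ _ ⟨m, hm, rfl⟩ ⟨n, hn, rfl⟩
    exact ⟨m ^^^ n, Nat.xor_lt_two_pow (n := 6) hm hn, (ev_xor o.isElem_x m n).symm⟩
  inv_mem' := by
    rintro _ ⟨m, hm, rfl⟩
    exact ⟨m, hm, inv_eq_of_mul_eq_one_right (ev_self o.isElem_x m)⟩

theorem kx_E6 : ∀ i, o.kx i ∈ o.E6 ∧ d.s * o.kx i * d.s ∈ o.E6 := by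
  intro i
  fin_cases i
  exacts [⟨⟨1, by norm_num, by simp [Lx, ev]⟩, ⟨8, by norm_num, by simp [Lx, ev]⟩⟩,
    ⟨⟨2, by norm_num, by simp [Lx, ev]⟩, ⟨16, by norm_num, by simp [Lx, ev]⟩⟩,
    ⟨⟨4, by norm_num, by simp [Lx, ev]⟩, ⟨32, by norm_num, by simp [Lx, ev]⟩⟩]

theorem card_E6 : Nat.card o.E6 = 64 := by
  rw [← Nat.card_congr (Equiv.ofBijective (fun x : Fin 64 => (⟨ev o.Lx x.1, x.1, x.2, rfl⟩ : o.E6))
    ⟨fun x y e => Fin.ext (by
      have e' : ev o.Lx x.1 = ev o.Lx y.1 := congrArg Subtype.val e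
      by_contra hne
      refine hne (Nat.xor_eq_zero_iff.1 (o.x_inter (Nat.xor_lt_two_pow (n := 6) x.2 y.2) ?_))
      rw [ev_xor o.isElem_x, e', ev_self o.isElem_x]
      exact o.A.one_mem), fun ⟨_, n, hn, e⟩ => ⟨⟨n, hn⟩, Subtype.ext e.symm⟩⟩), Nat.card_fin]

theorem E6_normal_gen {g : G} (h : ∀ i, g * o.kx i * g⁻¹ ∈ o.E6 ∧ g * (d.s * o.kx i * d.s) * g⁻¹ ∈ o.E6) :
    g ∈ normalizer (o.E6 : Set G) := by
  refine mem_normalizer_iff_map_conj_eq.2 (eq_of_le_of_card_ge ?_ (le_of_eq (card_map_of_injective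
    (MulAut.conj g).injective).symm))
  rintro _ ⟨x, ⟨m, -, rfl⟩, rfl⟩
  have := ev_mem (K := o.E6.comap (MulAut.conj g).toMonoidHom) o.Lx (fun b hb => ?_) m
  · exact this
  · simp only [Lx, List.mem_cons, List.not_mem_nil, or_false] at hb
    rcases hb with rfl | rfl | rfl | rfl | rfl | rfl
    exacts [(h 0).1, (h 1).1, (h 2).1, (h 0).2, (h 1).2, (h 2).2]

theorem gB_norm : o.gB ∈ normalizer (o.E6 : Set G) := by
  obtain ⟨h0, h1, h2⟩ := o.gB_kx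
  have h2' := h2 (o.kx_rep 2)
  refine o.E6_normal_gen fun i => ?_
  have hk : o.gB * o.kx i * o.gB⁻¹ ∈ o.E6 ∧ d.s * (o.gB * o.kx i * o.gB⁻¹) * d.s ∈ o.E6 := by
    fin_cases i
    · exact h0.symm ▸ o.kx_E6 0
    · exact h1.symm ▸ ⟨o.E6.mul_mem (o.kx_E6 0).1 (o.kx_E6 1).1, by
        rw [d.s_conj]; exact o.E6.mul_mem (o.kx_E6 0).2 (o.kx_E6 1).2⟩
    · exact h2'.symm ▸ o.kx_E6 2
  exact ⟨hk.1, by rw [lm_skes (d := d) o.hB.1]; exact hk.2⟩

theorem gC_norm : o.gC ∈ normalizer (o.E6 : Set G) := by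
  obtain ⟨h0, h1, h2⟩ := o.gC_kx
  refine o.E6_normal_gen fun i => ?_
  have hk : o.gC * o.kx i * o.gC⁻¹ ∈ o.E6 ∧ d.s * (o.gC * o.kx i * o.gC⁻¹) * d.s ∈ o.E6 := by
    fin_cases i
    · exact h0.symm ▸ o.kx_E6 0
    · exact h1.symm ▸ o.kx_E6 1
    · exact h2.symm ▸ ⟨o.E6.mul_mem (o.kx_E6 1).1 (o.kx_E6 2).1, by
        rw [d.s_conj]; exact o.E6.mul_mem (o.kx_E6 1).2 (o.kx_E6 2).2⟩
  exact ⟨hk.1, by rw [lm_skes (d := d) o.hC.1]; exact hk.2⟩

theorem q_norm : d.q ∈ normalizer (o.E6 : Set G) := by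
  refine o.E6_normal_gen fun i => ?_
  rw [d.qi, d.rep_q (o.kx_rep i), o.q_skx]
  exact ⟨(o.kx_E6 i).1, o.E6.mul_mem (o.kx_E6 i).1 (o.kx_E6 i).2⟩

/-- The part outside the six involutions. -/
noncomputable def D : Subgroup G := closure {o.gB, o.gC, d.q}

theorem D_norm : o.D ≤ normalizer (o.E6 : Set G) := by
  rw [D, closure_le]
  rintro x (rfl | rfl | rfl)
  exacts [o.gB_norm, o.gC_norm, o.q_norm]

theorem W8_hb : ∀ v : Fin 8, ∃ g ∈ o.D, d.Hb (W8 v) g := by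
  have b : o.gB ∈ o.D := subset_closure (Or.inl rfl)
  have c : o.gC ∈ o.D := subset_closure (Or.inr (Or.inl rfl))
  have h0 : ∃ g ∈ o.D, d.Hb (W8 0) g := ⟨1, one_mem _, hb_congr d.hb_one fun i => (W8_one i).symm⟩
  have sB : ∀ v w, nB v = w → (∃ g ∈ o.D, d.Hb (W8 v) g) → ∃ g ∈ o.D, d.Hb (W8 w) g := by
    rintro v w rfl ⟨g, hg, h⟩
    exact ⟨_, o.D.mul_mem b hg, hb_congr (d.hb_mul o.hB h) (W8_nB v)⟩
  have sC : ∀ v w, nC v = w → (∃ g ∈ o.D, d.Hb (W8 v) g) → ∃ g ∈ o.D, d.Hb (W8 w) g := by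
    rintro v w rfl ⟨g, hg, h⟩
    exact ⟨_, o.D.mul_mem c hg, hb_congr (d.hb_mul o.hC h) (W8_nC v)⟩
  have h1 := sB 0 1 rfl h0
  have h2 := sC 0 2 rfl h0
  have h3 := sB 2 3 rfl h2
  have h4 := sC 1 4 rfl h1
  have h5 := sB 4 5 rfl h4
  have h6 := sC 3 6 rfl h3
  have h7 := sB 6 7 rfl h6
  intro v
  fin_cases v
  exacts [h0, h1, h2, h3, h4, h5, h6, h7]

/-- The words. -/
noncomputable def wd (v : Fin 8) : G := (o.W8_hb v).choose

theorem wd_spec (v : Fin 8) : o.wd v ∈ o.D ∧ d.Hb (W8 v) (o.wd v) := (o.W8_hb v).choose_spec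

theorem D_cases {x : G} (hx : x ∈ o.D) : ∃ v : Fin 8, ∃ b : ℕ, b < 2 ∧ x = o.wd v * d.q ^ b := by
  have step : ∀ g : G, (∀ v : Fin 8, ∃ w : Fin 8, g * o.wd v = o.wd w) → ∀ {y : G},
      (∃ v : Fin 8, ∃ b : ℕ, b < 2 ∧ y = o.wd v * d.q ^ b) →
      ∃ v : Fin 8, ∃ b : ℕ, b < 2 ∧ g * y = o.wd v * d.q ^ b := by
    rintro g hg y ⟨v, b, hb, rfl⟩
    obtain ⟨w, hw⟩ := hg v
    exact ⟨w, b, hb, by rw [← mul_assoc, hw]⟩
  have hB : ∀ v, ∃ w : Fin 8, o.gB * o.wd v = o.wd w := fun v => by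
    exact ⟨nB v, d.hb_ext (d.hb_mul o.hB (o.wd_spec v).2) (o.wd_spec (nB v)).2 (W8_nB v)⟩
  have hC : ∀ v, ∃ w : Fin 8, o.gC * o.wd v = o.wd w := fun v => by
    exact ⟨nC v, d.hb_ext (d.hb_mul o.hC (o.wd_spec v).2) (o.wd_spec (nC v)).2 (W8_nC v)⟩
  have hq : ∀ {y : G}, (∃ v : Fin 8, ∃ b : ℕ, b < 2 ∧ y = o.wd v * d.q ^ b) →
      ∃ v : Fin 8, ∃ b : ℕ, b < 2 ∧ d.q * y = o.wd v * d.q ^ b := by
    rintro y ⟨v, b, hb, rfl⟩
    refine ⟨v, 1 - b, by omega, ?_⟩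
    rw [← mul_assoc, ← (o.wd_spec v).2.1.2.1, mul_assoc]
    rcases (by omega : b = 0 ∨ b = 1) with rfl | rfl
    · rw [pow_zero, mul_one, pow_one]
    · rw [pow_one, d.qq, pow_zero]
  induction hx using closure_induction_left with
  | one =>
    refine ⟨0, 0, by norm_num, ?_⟩
    rw [pow_zero, mul_one]
    exact (d.hb_ext (o.wd_spec 0).2 d.hb_one W8_one).symm
  | mul_left g hg y _ ih =>
    rcases hg with rfl | rfl | rfl
    exacts [step _ hB ih, step _ hC ih, hq ih]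
  | inv_mul_cancel g hg y _ ih =>
    rcases hg with rfl | rfl | rfl
    · rw [o.gB_inv]; exact step _ hB ih
    · rw [o.gC_inv]; exact step _ hC ih
    · rw [d.qi]; exact hq ih

/-- The complement in a Sylow 2-subgroup. -/
noncomputable def T : Subgroup G := o.E6 ⊔ o.D

theorem T_cases {x : G} (hx : x ∈ o.T) :
    ∃ m < 64, ∃ v : Fin 8, ∃ b < 2, x = ev o.Lx m * (o.wd v * d.q ^ b) := by
  rw [T, Cfsg.Agent.Coprime.mem_sup_of_le_normalizer o.D_norm |>.trans Iff.rfl] at hx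
  obtain ⟨e, ⟨m, hm, rfl⟩, y, hy, rfl⟩ := hx
  obtain ⟨v, b, hb, rfl⟩ := o.D_cases hy
  exact ⟨m, hm, v, b, hb, rfl⟩

/-- The only element in the subgroup of order `2^11` has trivial coordinates. -/
theorem T_inter {m : ℕ} (hm : m < 64) {v : Fin 8} {b : ℕ} (hb : b < 2)
    (h : ev o.Lx m * (o.wd v * d.q ^ b) ∈ o.A) : m = 0 ∧ v = 0 ∧ b = 0 := by
  obtain ⟨hc, -, -⟩ := o.x_ev m
  obtain ⟨hw, hwb⟩ := (o.wd_spec v).2
  have hb0 : b = 0 := by
    by_contra hne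
    obtain rfl : b = 1 := by omega
    rw [pow_one] at h
    have hq : d.q * a = a * d.q := by
      have hx : S.Cen ((ev o.Lx m * o.wd v)⁻¹) := S.cen_inv (S.cen_mul hc.1 hw.1)
      have h1 : ev o.Lx m * (o.wd v * d.q) * a = a * (ev o.Lx m * (o.wd v * d.q)) := o.comm_A h o.a_mem
      calc d.q * a = (ev o.Lx m * o.wd v)⁻¹ * (ev o.Lx m * (o.wd v * d.q) * a) := by group
        _ = ((ev o.Lx m * o.wd v)⁻¹ * a) * (ev o.Lx m * (o.wd v * d.q)) := by rw [h1]; group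
        _ = (a * (ev o.Lx m * o.wd v)⁻¹) * (ev o.Lx m * (o.wd v * d.q)) := by rw [hx.2]
        _ = _ := by group
    have := (S.comm_a_iff d.hq).1 hq
    rw [d.hqv, y1_f1] at this
    exact one_ne_zero this
  subst hb0
  rw [pow_zero, mul_one] at h
  obtain ⟨n, hn, e⟩ := h
  obtain ⟨-, hbar, -⟩ := o.ev_par n
  have hv : v = 0 := W8_wf v ⟨n % 8, Nat.mod_lt _ (by norm_num)⟩ fun j => ww_inj (by
    rw [← hbar, ← e, S.bar_mul hc.1 hw.1 (inW_ww _), hwb, hc.2 _ (inW_ww _)])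
  subst hv
  refine ⟨o.x_inter hm ?_, rfl, rfl⟩
  rw [show o.wd 0 = 1 from d.hb_ext (o.wd_spec 0).2 d.hb_one W8_one, mul_one] at e
  exact ⟨n, hn, e⟩

theorem T_disjoint {x : G} (hx : x ∈ o.T) (hA : x ∈ o.A) : x = 1 := by
  obtain ⟨m, hm, v, b, hb, rfl⟩ := o.T_cases hx
  obtain ⟨rfl, rfl, rfl⟩ := o.T_inter hm hb hA
  rw [ev_zero, one_mul, pow_zero, mul_one]
  exact d.hb_ext (o.wd_spec 0).2 d.hb_one W8_one

theorem card_T : Nat.card o.T = 1024 := by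
  have hmem : ∀ p : Fin 64 × Fin 8 × Fin 2, ev o.Lx p.1.1 * (o.wd p.2.1 * d.q ^ p.2.2.1) ∈ o.T := fun p =>
    o.T.mul_mem (mem_sup_left ⟨p.1.1, p.1.2, rfl⟩) (mem_sup_right (o.D.mul_mem (o.wd_spec _).1
      (o.D.pow_mem (subset_closure (Or.inr (Or.inr rfl))) _)))
  rw [← Nat.card_congr (Equiv.ofBijective (fun p : Fin 64 × Fin 8 × Fin 2 => (⟨_, hmem p⟩ : o.T)) ⟨?_, ?_⟩)]
  · simp
  · rintro ⟨m, v, b⟩ ⟨m', v', b'⟩ e
    have e' : ev o.Lx m.1 * (o.wd v * d.q ^ b.1) = ev o.Lx m'.1 * (o.wd v' * d.q ^ b'.1) := congrArg Subtype.val e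
    have hv : ∀ i, W8 v i = W8 v' i := fun i => by
      have key : ∀ (m : ℕ) (v : Fin 8) (b : ℕ), S.Core (ev o.Lx m) ∧
          act (S.act' (ev o.Lx m * (o.wd v * d.q ^ b))) (ww i) = act (S.act' (ev o.Lx m)) (act (S.act' (o.wd v)) (ww i)) := by
        intro m v b
        have hqb : S.act' (d.q ^ b) = 1 := S.act'_q (Q.pow_mem d.hq b)
        have hqz : d.q ^ b * z = z * d.q ^ b := ((show Commute d.q z from d.qz).pow_left b).eq
        refine ⟨(o.x_ev m).1, ?_⟩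
        rw [S.act'_mul (o.x_ev m).1.1.1 (mul_z (o.wd_spec v).2.1.1.1 hqz),
          S.act'_mul (o.wd_spec v).2.1.1.1 hqz, hqb, mul_one, act_mul]
      have hb : ∀ (m : ℕ) (v : Fin 8), pw (act (S.act' (ev o.Lx m)) (act (S.act' (o.wd v)) (ww i))) = ww (W8 v i) := by
        intro m v
        obtain ⟨hw, hwb⟩ := (o.wd_spec v).2
        have h1 := S.bar_mul (o.x_ev m).1.1 hw.1 (inW_ww i)
        rw [hwb, (o.x_ev m).1.2 _ (inW_ww _), St.bar, S.act'_mul (o.x_ev m).1.1.1 hw.1.1, act_mul] at h1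
        exact h1
      apply ww_inj
      rw [← hb m.1, ← hb m'.1, ← (key m.1 v b.1).2, ← (key m'.1 v' b'.1).2, e']
    obtain rfl := W8_sep _ _ fun j => hv _
    have hx : ev o.Lx (m.1 ^^^ m'.1) * (o.wd v * d.q ^ ((b.1 + b'.1) % 2) * (o.wd v)⁻¹) = 1 := by
      have hb2 : d.q ^ ((b.1 + b'.1) % 2) = d.q ^ b.1 * (d.q ^ b'.1)⁻¹ := by
        rcases (by omega : b.1 = 0 ∨ b.1 = 1) with h | h <;> rcases (by omega : b'.1 = 0 ∨ b'.1 = 1) with h' | h' <;>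
          simp [h, h', d.qi, d.qq]
      calc ev o.Lx (m.1 ^^^ m'.1) * (o.wd v * d.q ^ ((b.1 + b'.1) % 2) * (o.wd v)⁻¹)
          = ev o.Lx m'.1 * (ev o.Lx m.1 * (o.wd v * d.q ^ b.1)) * ((d.q ^ b'.1)⁻¹ * (o.wd v)⁻¹) := by
            rw [Nat.xor_comm, ev_xor o.isElem_x, hb2]; group
        _ = (ev o.Lx m'.1 * ev o.Lx m'.1) := by rw [e']; group
        _ = 1 := ev_self o.isElem_x _
    have hwq : o.wd v * d.q ^ ((b.1 + b'.1) % 2) * (o.wd v)⁻¹ = o.wd 0 * d.q ^ ((b.1 + b'.1) % 2) := by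
      rw [show o.wd 0 = 1 from d.hb_ext (o.wd_spec 0).2 d.hb_one W8_one, one_mul]
      have : Commute (o.wd v) (d.q ^ ((b.1 + b'.1) % 2)) :=
        (show Commute (o.wd v) d.q from (o.wd_spec v).2.1.2.1).pow_right _
      rw [this.eq, mul_inv_cancel_right]
    rw [hwq] at hx
    obtain ⟨h1, -, h3⟩ := o.T_inter (Nat.xor_lt_two_pow (n := 6) m.2 m'.2) (Nat.mod_lt _ (by norm_num))
      (hx.symm ▸ o.A.one_mem)
    have hm : m = m' := Fin.ext (Nat.xor_eq_zero_iff.1 h1)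
    have hb : b = b' := Fin.ext (by omega)
    rw [hm, hb]
  · rintro ⟨x, hx⟩
    obtain ⟨m, hm, v, b, hb, rfl⟩ := o.T_cases hx
    exact ⟨⟨⟨m, hm⟩, v, ⟨b, hb⟩⟩, rfl⟩

theorem T_le : o.T ≤ normalizer (o.A : Set G) := by
  rw [T, sup_le_iff]
  constructor
  · rintro _ ⟨m, -, rfl⟩
    refine ev_mem _ (fun b hb => ?_) m
    simp only [Lx, List.mem_cons, List.not_mem_nil, or_false] at hb
    rcases hb with rfl | rfl | rfl | rfl | rfl | rfl
    exacts [o.gen_mem 2, o.gen_mem 3, o.gen_mem 4, o.gen_mem 7, o.gen_mem 8, o.gen_mem 9]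
  · rw [D, closure_le]
    rintro x (rfl | rfl | rfl)
    · exact o.gen_mem 6
    · exact mul_mem (mul_mem (o.gen_mem 5) (o.gen_mem 6)) (inv_mem (o.gen_mem 5))
    · exact o.gen_mem 1

end Oct

end Cfsg.Agent.ConwayType.Octad
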