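import Cfsg.Agent.Lib.ConwayType.Octad.Fusion
import Cfsg.Agent.Lib.ConwayType.Octad.Sylow
import Cfsg.Agent.Lib.ConwayType.Octad.DualAut
import Cfsg.Agent.Solvable.Gaschutz
import Cfsg.Agent.S0364
import Cfsg.Agent.S0365

/-!
The normalizer of the subgroup of order `2^11` modulo that subgroup is the Mathieu group of degree 24,
and the extension splits.
-/

set_option autoImplicit false
set_option maxRecDepth 20000

namespace Cfsg.Agent.ConwayType.Octad

open Subgroup Cfsg.Agent.LargeExtra Cfsg.Agent.OctadInv.Orbits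
open DualAut (IsAut)

theorem zlist_iff (x : ℕ) : x ∈ Data.zlist ↔ x < 2048 ∧
    ((Model.orb 0).testBit x = true ∨ (Model.orb 1).testBit x = true ∨ (Model.orb 2).testBit x = true) := by
  rw [← Model.zlist_eq, List.mem_filter, List.mem_range, Bool.or_eq_true, Bool.or_eq_true, or_assoc]

theorem fix_z : ∀ g : Fin 10, g.1 ≠ 0 → Model.img g.1 512 = 512 := by decide +kernel

theorem order_seven : (∀ i, (fA ∘ fB)^[7] i = i) ∧ fA (fB 2) ≠ 2 := by decide +kernel

/-- Thirty indices. -/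
def thirty : List ℕ := (List.range 2048).filter (fun x => Data.maskA.testBit x) ++ [1024, 1536]

theorem thirty_facts : thirty.Nodup ∧ thirty.length = 30 ∧ ∀ x ∈ thirty, x < 2048 := by
  refine ⟨List.nodup_append.2 ⟨List.nodup_range.filter _, by decide, ?_⟩, ?_, fun x hx => ?_⟩
  · intro x hx y hy e
    have h2 := (List.mem_filter.1 hx).2
    rw [e] at h2
    revert h2
    fin_cases hy <;> decide +kernel
  · rw [thirty, List.length_append, Model.maskA_card]; rfl
  · rcases List.mem_append.1 hx with h | h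
    · exact List.mem_range.1 (List.mem_filter.1 h).1
    · fin_cases h <;> norm_num

theorem Rel.mono {G : Type*} [Group G] {K K' : Subgroup G} (h : K ≤ K') {x y : G} (hr : Rel K x y) :
    Rel K' x y := by
  obtain ⟨m, hm, e⟩ := hr
  exact ⟨m, h hm, e⟩

/-- The orbit and the stabiliser for conjugation. -/
theorem card_orbit_mul {G : Type*} [Group G] [Finite G] (K : Subgroup G) (x : G) :
    {y | Rel K x y}.ncard * Nat.card (K ⊓ centralizer {x} : Subgroup G) = Nat.card K := by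
  letI : MulAction K G := MulAction.compHom G ((MulAut.conj : G →* MulAut G).comp K.subtype)
  have horb : MulAction.orbit K x = {y | Rel K x y} := by
    ext y
    exact ⟨fun ⟨m, e⟩ => ⟨(m : G), m.2, e⟩, fun ⟨m, hm, e⟩ => ⟨⟨m, hm⟩, e⟩⟩
  have hst : Nat.card (K ⊓ centralizer {x} : Subgroup G) = Nat.card (MulAction.stabilizer K x) := by
    refine Nat.card_congr
      { toFun := fun g => ⟨⟨g.1, g.2.1⟩, ?_⟩
        invFun := fun g => ⟨g.1.1, g.1.2, ?_⟩
        left_inv := fun _ => rfl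
        right_inv := fun _ => rfl }
    · show (g : G) * x * (g : G)⁻¹ = x
      rw [mem_centralizer_singleton_iff.1 g.2.2, mul_inv_cancel_right]
    · exact mem_centralizer_singleton_iff.2 (mul_inv_eq_iff_eq_mul.1 g.2)
  rw [hst, ← horb, ← MulAction.index_stabilizer, mul_comm, card_mul_index]

variable {G : Type*} [Group G] [Finite G] {Q Q' : Subgroup G} {z a : G} {S : St Q Q' z a} {d : Gen S}

namespace Oct

variable (o : Oct d)

/-- The normalizer. -/
abbrev N : Subgroup G := normalizer (o.A : Set G)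

theorem conj_ev (m : o.N) (x : ℕ) : ∃ n < 2048, (m : G) * ev o.L x * (m : G)⁻¹ = ev o.L n :=
  (mem_normalizer_iff.1 m.2 _).1 (ev_mem _ o.L_mem x)

/-- The action on the indices. -/
noncomputable def tau (m : o.N) (x : ℕ) : ℕ := (o.conj_ev m x).choose

theorem tau_lt (m : o.N) (x : ℕ) : o.tau m x < 2048 := (o.conj_ev m x).choose_spec.1

theorem ev_tau (m : o.N) (x : ℕ) : ev o.L (o.tau m x) = (m : G) * ev o.L x * (m : G)⁻¹ :=
  (o.conj_ev m x).choose_spec.2.symm

theorem tau_eq {m : o.N} {x n : ℕ} (hn : n < 2048) (e : (m : G) * ev o.L x * (m : G)⁻¹ = ev o.L n) :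
    o.tau m x = n :=
  o.ev_inj (o.tau_lt m x) hn ((o.ev_tau m x).trans e)

variable (hQ : 32 ≤ Nat.card ↥Q)
include hQ

theorem conj_z_iff {x : ℕ} (hx : x < 2048) : IsConj z (ev o.L x) ↔ x ∈ Data.zlist := by
  obtain ⟨c1, c2, c3⟩ := o.classes hQ
  rw [zlist_iff]
  constructor
  · intro h
    refine ⟨hx, ?_⟩
    have h0 : x ≠ 0 := by
      rintro rfl
      rw [ev_zero] at h
      exact S.h.ne_one (isConj_one_left.1 h)
    obtain ⟨i, hi⟩ := (Model.orb_cover ⟨x, hx⟩).resolve_left h0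
    rcases Nat.lt_or_ge i.1 3 with h3 | h3
    · rcases (by omega : i.1 = 0 ∨ i.1 = 1 ∨ i.1 = 2) with e | e | e <;> rw [e] at hi
      exacts [Or.inl hi, Or.inr (Or.inl hi), Or.inr (Or.inr hi)]
    · exact absurd (h.trans (((c2 i h3).trans (o.orb_rel i hi)).isConj.symm)) c3
  · rintro ⟨-, h | h | h⟩
    · exact ((c1 0 (by decide)).trans (o.orb_rel 0 h)).isConj
    · exact ((c1 1 (by decide)).trans (o.orb_rel 1 h)).isConj
    · exact ((c1 2 (by decide)).trans (o.orb_rel 2 h)).isConj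

theorem isAut (m : o.N) : IsAut (o.tau m) where
  lt x _ := o.tau_lt m x
  add x _ y _ := o.tau_eq (Nat.xor_lt_two_pow (n := 11) (o.tau_lt m x) (o.tau_lt m y)) (by
    rw [ev_xor o.isElem, ev_xor o.isElem, o.ev_tau, o.ev_tau, conj_mul])
  inj x hx y hy e := o.ev_inj hx hy (by
    have := (o.ev_tau m x).symm.trans (e ▸ o.ev_tau m y)
    simpa using this)
  zl x hx := by
    have hlt := DualAut.zlist_lt hx
    refine (o.conj_z_iff hQ (o.tau_lt m x)).1 (((o.conj_z_iff hQ hlt).2 hx).trans ?_)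
    exact isConj_iff.2 ⟨(m : G), (o.ev_tau m x).symm⟩

theorem tau_mul (m m' : o.N) (x : ℕ) : o.tau (m * m') x = o.tau m (o.tau m' x) :=
  o.tau_eq (o.tau_lt _ _) (by rw [o.ev_tau, o.ev_tau, Subgroup.coe_mul, mul_inv_rev]; group)

/-- The map to the Mathieu group. -/
noncomputable def phi : o.N →* Cfsg.M24 :=
  MonoidHom.mk' (fun m => ⟨DualAut.perm (o.isAut hQ m), DualAut.perm_mem (o.isAut hQ m)⟩) fun m m' =>
    Subtype.ext (DualAut.perm_comp (o.isAut hQ m) (o.isAut hQ m') (o.isAut hQ (m * m'))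
      fun x _ => o.tau_mul hQ m m' x)

theorem phi_ker : (o.phi hQ).ker = o.A.subgroupOf o.N := by
  ext m
  rw [MonoidHom.mem_ker, mem_subgroupOf]
  constructor
  · intro e
    have hfix : ∀ x, x < 2048 → (m : G) * ev o.L x = ev o.L x * (m : G) := fun x hx => by
      have h := DualAut.tau_eq_of_perm (o.isAut hQ m) (congrArg Subtype.val e) hx
      have := o.ev_tau m x
      rw [h] at this
      exact mul_inv_eq_iff_eq_mul.1 this.symm
    have hA : ∀ y ∈ o.A, (m : G) * y = y * (m : G) := by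
      rintro _ ⟨n, hn, rfl⟩
      exact hfix n hn
    exact o.mem_of_comm (hA _ o.z_mem) (hA _ o.a_mem) fun i => hA _ (o.ke_mem i)
  · intro hm
    have hid : ∀ x < 2048, o.tau m x = x := fun x hx => o.tau_eq hx (by
      rw [o.comm_A hm (ev_mem _ o.L_mem x), mul_inv_cancel_right])
    have h := DualAut.perm_comp (o.isAut hQ m) (o.isAut hQ m) (o.isAut hQ m)
      fun x hx => by rw [hid x hx, hid x hx]
    exact Subtype.ext (mul_left_cancel (h.symm.trans (mul_one _).symm))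

omit hQ in
/-- The two-point stabiliser is large. -/
theorem le_card_stab : 2 ^ 17 * 21 ≤ Nat.card (o.N ⊓ centralizer {z} ⊓ centralizer {a} : Subgroup G) := by
  set N2 := o.N ⊓ centralizer {z} ⊓ centralizer {a}
  have hmem : ∀ {g : G}, g ∈ o.N → S.Cen g → g ∈ N2 := fun {g} hg hc =>
    ⟨⟨hg, mem_centralizer_singleton_iff.2 hc.1⟩, mem_centralizer_singleton_iff.2 hc.2⟩
  have hA : o.A ≤ N2 := fun x hx =>
    ⟨⟨le_normalizer hx, mem_centralizer_singleton_iff.2 (o.comm_A hx o.z_mem)⟩,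
      mem_centralizer_singleton_iff.2 (o.comm_A hx o.a_mem)⟩
  have hE : o.E6 ≤ N2 := fun x hx => hmem (o.T_le (mem_sup_left hx)) (by
    obtain ⟨m, -, rfl⟩ := hx
    exact (o.x_ev m).1.1)
  have hE' : o.E6 ≤ o.N := le_sup_left.trans o.T_le
  have hd : Disjoint o.A o.E6 := by
    rw [disjoint_iff_inf_le]
    intro x hx
    exact o.T_disjoint (mem_sup_left hx.2) hx.1
  have h17 : 2 ^ 17 ∣ Nat.card N2 := by
    have h := card_dvd_of_le (sup_le hA hE)
    rw [Cfsg.Agent.Coprime.card_sup_of_disjoint hE' hd, o.card_A, o.card_E6] at h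
    exact (show 2 ^ 17 = 2 ^ 11 * 64 by norm_num) ▸ h
  have hgA : o.gA ∈ N2 := hmem (o.gen_mem 5) o.hA.1.1
  have hgB : o.gB ∈ N2 := hmem (o.gen_mem 6) o.hB.1.1
  have h3 : 3 ∣ Nat.card N2 := by
    have : Fact (Nat.Prime 3) := ⟨by norm_num⟩
    have ho : orderOf o.gA = 3 := orderOf_eq_prime (by rw [pow_three, ← mul_assoc, o.gA3]) fun e => by
      have h := o.hA.2 2
      rw [e, S.bar_q Q.one_mem (inW_ww 2)] at h
      exact absurd (ww_inj h) (by decide +kernel)
    exact ho ▸ Subgroup.orderOf_dvd_natCard N2 hgA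
  have h7 : 7 ∣ Nat.card N2 := by
    have : Fact (Nat.Prime 7) := ⟨by norm_num⟩
    have hb := d.hb_mul o.hA o.hB
    have hp : ∀ n : ℕ, d.Hb ((fA ∘ fB)^[n]) ((o.gA * o.gB) ^ n) := by
      intro n
      induction n with
      | zero => rw [pow_zero]; exact d.hb_one
      | succ n ih => rw [pow_succ', Function.iterate_succ']; exact d.hb_mul hb ih
    have ho : orderOf (o.gA * o.gB) = 7 :=
      orderOf_eq_prime (d.hb_ext (hp 7) d.hb_one order_seven.1) fun e => by
      have h := hb.2 2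
      rw [e, S.bar_q Q.one_mem (inW_ww 2)] at h
      exact order_seven.2 (ww_inj h).symm
    exact ho ▸ Subgroup.orderOf_dvd_natCard N2 (N2.mul_mem hgA hgB)
  refine Nat.le_of_dvd Nat.card_pos ?_
  have h21 : 21 ∣ Nat.card N2 := Nat.Coprime.mul_dvd_of_dvd_of_dvd (by norm_num) h3 h7
  exact Nat.Coprime.mul_dvd_of_dvd_of_dvd (by norm_num) h17 h21

omit hQ in
/-- The stabiliser moves the second involution to at least thirty places. -/
theorem thirty_rel : ∀ x ∈ thirty, Rel (o.N ⊓ centralizer {z}) a (ev o.L x) := by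
  obtain ⟨b512, b1024, b8, b520, -⟩ := o.ev_bits
  set N1 := o.N ⊓ centralizer {z}
  have hg : ∀ g : Fin 10, g.1 ≠ 0 → o.gen g ∈ N1 := fun g hg0 => by
    refine ⟨o.gen_mem g, mem_centralizer_singleton_iff.2 ?_⟩
    have h := o.gen_conj g 512
    rw [fix_z g hg0, b512] at h
    exact mul_inv_eq_iff_eq_mul.1 h
  have tree : ∀ x, Data.maskA.testBit x = true → Rel N1 (ev o.L 8) (ev o.L x) := by
    intro x hx
    rw [← Model.grow_A] at hx
    refine Model.grow_spec (P := fun x => Rel N1 (ev o.L 8) (ev o.L x)) (fun e he y hy _ => ?_)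
      (fun y hy => ?_) x hx
    · obtain ⟨g1, g2⟩ := Model.tree_gens.2 e he
      exact hy.trans ⟨_, hg ⟨e / 2048, g2⟩ (show e / 2048 ≠ 0 by omega), o.gen_conj ⟨e / 2048, g2⟩ y⟩
    · rw [Nat.one_shiftLeft, Nat.testBit_two_pow, decide_eq_true_eq] at hy
      exact hy ▸ ⟨1, one_mem _, by group⟩
  obtain ⟨c, hcz, hN, hact, -⟩ := o.exists_c
  have h8 : Rel N1 a (ev o.L 8) := by
    obtain ⟨t, ht⟩ := d.rep_eq (o.ke_rep 0) (k := o.ke 0) (l := c * a * c⁻¹) ⟨S.h.conj_mem hcz S.mem_a, by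
      rw [S.vec_conj hcz S.mem_a, hact, S.F.vec_a]; exact cV_values.1⟩
    have hc : c ∈ N1 := ⟨hN, mem_centralizer_singleton_iff.2 hcz⟩
    rcases z2 t with rfl | rfl
    · exact ⟨c, hc, by rw [ht, b8, zp_zero, one_mul]⟩
    · have h1 : Rel N1 a (ev o.L 520) := ⟨c, hc, by rw [ht, b520, zp_one]⟩
      exact h1.trans (tree 520 (by decide +kernel)).symm
  intro x hx
  rcases List.mem_append.1 hx with h | h
  · exact h8.trans (tree x (List.mem_filter.1 h).2)
  · fin_cases h
    · exact ⟨1, one_mem _, by rw [b1024]; group⟩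
    · refine ⟨d.q, hg 1 (by decide), ?_⟩
      rw [show (1536 : ℕ) = 512 ^^^ 1024 from rfl, ev_xor o.isElem, b512, b1024]
      exact (S.P.p.conj_a d.hq).resolve_left fun e => by
        have := (S.comm_a_iff d.hq).1 (mul_inv_eq_iff_eq_mul.1 e)
        rw [d.hqv, y1_f1] at this
        exact one_ne_zero this

theorem le_card_N : 2 ^ 11 * 30602880 ≤ Nat.card o.N := by
  classical
  have hz : {y | Rel o.N z y}.ncard = 759 := by
    have e : {y | Rel o.N z y} = ↑(Data.zlist.toFinset.image (ev o.L)) := by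
      ext y
      simp only [Set.mem_setOf_eq, Finset.coe_image, Set.mem_image, SetLike.mem_coe, List.mem_toFinset]
      constructor
      · rintro ⟨m, hm, rfl⟩
        obtain ⟨n, hn, e⟩ := (mem_normalizer_iff.1 hm _).1 o.z_mem
        exact ⟨n, (o.conj_z_iff hQ hn).1 (e ▸ isConj_iff.2 ⟨m, rfl⟩), e.symm⟩
      · rintro ⟨n, hn, rfl⟩
        obtain ⟨hlt, h⟩ := (zlist_iff n).1 hn
        rcases h with h | h | h
        · exact ((o.classes hQ).1 0 (by decide)).trans (o.orb_rel 0 h)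
        · exact ((o.classes hQ).1 1 (by decide)).trans (o.orb_rel 1 h)
        · exact ((o.classes hQ).1 2 (by decide)).trans (o.orb_rel 2 h)
    rw [e, Set.ncard_coe_finset, Finset.card_image_of_injOn, List.toFinset_card_of_nodup DualAut.zlist_nodup,
      Model.zlist_card]
    intro x hx y hy
    exact o.ev_inj (DualAut.zlist_lt (List.mem_toFinset.1 hx)) (DualAut.zlist_lt (List.mem_toFinset.1 hy))
  have ha : 30 ≤ {y | Rel (o.N ⊓ centralizer {z}) a y}.ncard := by
    have h : (↑(thirty.toFinset.image (ev o.L)) : Set G) ⊆ {y | Rel (o.N ⊓ centralizer {z}) a y} := by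
      simp only [Finset.coe_image, Set.image_subset_iff]
      intro x hx
      exact o.thirty_rel x (List.mem_toFinset.1 hx)
    refine le_trans (le_of_eq ?_) (Set.ncard_le_ncard h)
    rw [Set.ncard_coe_finset, Finset.card_image_of_injOn, List.toFinset_card_of_nodup thirty_facts.1,
      thirty_facts.2.1]
    intro x hx y hy
    exact o.ev_inj (thirty_facts.2.2 x (List.mem_toFinset.1 hx)) (thirty_facts.2.2 y (List.mem_toFinset.1 hy))
  rw [← card_orbit_mul o.N z, hz, ← card_orbit_mul (o.N ⊓ centralizer {z}) a]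
  calc 2 ^ 11 * 30602880 = 759 * (30 * (2 ^ 17 * 21)) := by norm_num
    _ ≤ _ := Nat.mul_le_mul_left 759 (Nat.mul_le_mul ha o.le_card_stab)

theorem phi_surj : Function.Surjective (o.phi hQ) := by
  have h2 := card_mul_index (o.phi hQ).ker
  rw [index_ker, o.phi_ker hQ, Nat.card_congr (subgroupOfEquivOfLe le_normalizer).toEquiv, o.card_A] at h2
  have h3 := (o.phi hQ).range.card_mul_index
  rw [Cfsg.Agent.S0364.result] at h3
  have hle := o.le_card_N hQ
  set R := (o.phi hQ).range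
  have hR : 30602880 ≤ Nat.card R := by
    rw [← h2] at hle
    exact Nat.le_of_mul_le_mul_left hle (by norm_num)
  have hind : R.index ≤ 8 := by
    by_contra hlt
    have : 30602880 * 9 ≤ Nat.card R * R.index := Nat.mul_le_mul hR (by omega)
    omega
  haveI : IsSimpleGroup Cfsg.M24 := Cfsg.Agent.S0365.result
  refine MonoidHom.range_eq_top.1 ?_
  rcases IsSimpleGroup.eq_bot_or_eq_top_of_normal R.normalCore inferInstance with e | e
  swap
  · exact top_le_iff.1 (e ▸ normalCore_le _)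
  exfalso
  rw [normalCore_eq_ker] at e
  have h5 := card_dvd_of_injective _ ((MonoidHom.ker_eq_bot_iff _).1 e)
  rw [Cfsg.Agent.S0364.result, Nat.card_perm, show Nat.card (Cfsg.M24 ⧸ R) = R.index from rfl] at h5
  have h7 := ((show Nat.Prime 23 by norm_num).dvd_factorial).1
    ((show 23 ∣ 244823040 by norm_num).trans h5)
  omega

theorem card_N : Nat.card o.N = 2 ^ 11 * 244823040 := by
  rw [← card_mul_index (o.phi hQ).ker, index_ker, MonoidHom.range_eq_top.2 (o.phi_surj hQ), card_top,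
    Cfsg.Agent.S0364.result, o.phi_ker hQ, Nat.card_congr (subgroupOfEquivOfLe le_normalizer).toEquiv, o.card_A]

theorem exists_quot : ∃ _ : (o.A.subgroupOf o.N).Normal,
    Nonempty (↥o.N ⧸ o.A.subgroupOf o.N ≃* ↥Cfsg.M24) := by
  haveI hn : (o.A.subgroupOf o.N).Normal := o.phi_ker hQ ▸ (o.phi hQ).normal_ker
  exact ⟨hn, ⟨(QuotientGroup.quotientMulEquivOfEq (o.phi_ker hQ).symm).trans
    (QuotientGroup.quotientKerEquivOfSurjective _ (o.phi_surj hQ))⟩⟩

theorem exists_compl : ∃ K : Subgroup ↥o.N, (o.A.subgroupOf o.N).IsComplement' K := by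
  obtain ⟨hn, -⟩ := o.exists_quot hQ
  haveI := hn
  haveI : IsMulCommutative (o.A.subgroupOf o.N) :=
    ⟨⟨fun x y => Subtype.ext (Subtype.ext (o.comm_A x.2 y.2))⟩⟩
  have hAN : o.A ≤ o.N := le_normalizer
  have hd : Disjoint o.A o.T := by
    rw [disjoint_iff_inf_le]
    exact fun x hx => o.T_disjoint hx.2 hx.1
  have hcU : Nat.card (o.A ⊔ o.T : Subgroup G) = 2 ^ 21 := by
    rw [Cfsg.Agent.Coprime.card_sup_of_disjoint o.T_le hd, o.card_A, o.card_T]; norm_num
  have hle : o.A ⊔ o.T ≤ o.N := sup_le hAN o.T_le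
  have hcK : Nat.card (o.A.subgroupOf o.N) = 2 ^ 11 := by
    rw [Nat.card_congr (subgroupOfEquivOfLe hAN).toEquiv, o.card_A]
  have hidx : ((o.A ⊔ o.T).subgroupOf o.N).index = 239085 := by
    have h := card_mul_index ((o.A ⊔ o.T).subgroupOf o.N)
    rw [Nat.card_congr (subgroupOfEquivOfLe hle).toEquiv, hcU, o.card_N hQ] at h
    omega
  refine Cfsg.Agent.Solvable.Gaschutz.exists_complement' (U := (o.A ⊔ o.T).subgroupOf o.N)
    (A := o.T.subgroupOf o.N) ?_ ?_ ?_ ?_ ?_
  · exact fun x hx => mem_subgroupOf.2 (mem_sup_left (mem_subgroupOf.1 hx))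
  · rw [hcK, hidx]; exact Nat.Coprime.pow_left _ (by decide)
  · exact fun x hx => mem_subgroupOf.2 (mem_sup_right (mem_subgroupOf.1 hx))
  · rw [eq_bot_iff]
    exact fun x hx => mem_bot.2 (Subtype.ext (o.T_disjoint (mem_subgroupOf.1 hx.1) (mem_subgroupOf.1 hx.2)))
  · exact (subgroupOf_sup hAN o.T_le).symm

/-- The conclusion. -/
theorem main : Cfsg.IsElementaryAbelian 2 o.A ∧ Nat.card o.A = 2 ^ 11 ∧ z ∈ o.A ∧
    ∃ _ : (o.A.subgroupOf o.N).Normal, Nonempty (↥o.N ⧸ o.A.subgroupOf o.N ≃* ↥Cfsg.M24) ∧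
      (∃ K : Subgroup ↥o.N, (o.A.subgroupOf o.N).IsComplement' K) ∧
      ∃ x ∈ o.A, ∃ y ∈ o.A, x ≠ 1 ∧ y ≠ 1 ∧ (∀ n ∈ o.N, n * x * n⁻¹ ≠ y) ∧
        ∀ c ∈ o.A, c ≠ 1 → ∃ n ∈ o.N, n * c * n⁻¹ = x ∨ n * c * n⁻¹ = y := by
  obtain ⟨hn, hq⟩ := o.exists_quot hQ
  obtain ⟨c1, c2, c3⟩ := o.classes hQ
  refine ⟨⟨⟨⟨fun x y => Subtype.ext (o.comm_A x.2 y.2)⟩⟩, fun x hx => ?_⟩, o.card_A, o.z_mem, hn, hq,
    o.exists_compl hQ, z, o.z_mem, ev o.L 80, ev_mem _ o.L_mem _, S.h.ne_one, o.ev_ne (by norm_num) (by norm_num),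
    fun n _ e => c3 (isConj_iff.2 ⟨n, e⟩), ?_⟩
  · obtain ⟨n, -, rfl⟩ := hx
    rw [pow_two, ev_self o.isElem]
  · rintro _ ⟨x, hx, rfl⟩ h1
    have h0 : x ≠ 0 := fun e => h1 (by rw [e, ev_zero])
    obtain ⟨i, hi⟩ := (Model.orb_cover ⟨x, hx⟩).resolve_left h0
    rcases Nat.lt_or_ge i.1 3 with h3 | h3
    · obtain ⟨n, hn, e⟩ := ((c1 i h3).trans (o.orb_rel i hi)).symm
      exact ⟨n, hn, Or.inl e⟩
    · obtain ⟨n, hn, e⟩ := ((c2 i h3).trans (o.orb_rel i hi)).symm
      exact ⟨n, hn, Or.inr e⟩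

end Oct

end Cfsg.Agent.ConwayType.Octad
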