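import Cfsg.Agent.Lib.ConwayType.Octad.Basis

/-!
The tables of the elements acting on the generators.
-/

set_option autoImplicit false
set_option maxRecDepth 20000
set_option maxHeartbeats 1000000

namespace Cfsg.Agent.ConwayType.Octad

open Subgroup Cfsg.Agent.LargeExtra Cfsg.Agent.OctadInv.Orbits
open Cfsg.Agent.Golay.Basic (enc)

variable {G : Type*} [Group G]

theorem forall₂_of_get {g : G} {L : List G} : ∀ {L' : List G} {I : List ℕ}, L'.length = I.length →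
    (∀ i (h1 : i < L'.length) (h2 : i < I.length), g * L'[i] * g⁻¹ = ev L I[i]) →
    List.Forall₂ (fun b m => g * b * g⁻¹ = ev L m) L' I
  | [], [], _, _ => .nil
  | b :: L', m :: I, hl, h => .cons (h 0 (Nat.zero_lt_succ _) (Nat.zero_lt_succ _))
      (forall₂_of_get (Nat.succ.inj hl) fun i h1 h2 => h (i + 1) (Nat.succ_lt_succ h1) (Nat.succ_lt_succ h2))

variable [Finite G] {Q Q' : Subgroup G} {z a : G} {S : St Q Q' z a} {d : Gen S}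

namespace Oct

variable (o : Oct d)

theorem ske_cen (i : Fin 3) : S.Cen (d.s * o.ke i * d.s) := d.cen_s (S.cen_q (o.ke_rep i).1 (d.rep_y1 (o.ke_rep i)))

theorem ske_sq (i : Fin 3) : d.s * o.ke i * d.s * (d.s * o.ke i * d.s) = 1 := by
  rw [← d.s_conj, o.ke_sq, mul_one, d.hss]

theorem r_ske (i j : Fin 3) : o.r i * (d.s * o.ke j * d.s) * (o.r i)⁻¹ = d.s * o.ke j * d.s := by
  have hs := d.lm_comm_s (o.hR i).1
  have hsi := d.lm_comm_s (d.lm_inv (o.hR i).1)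
  calc o.r i * (d.s * o.ke j * d.s) * (o.r i)⁻¹ = (o.r i * d.s) * o.ke j * (d.s * (o.r i)⁻¹) := by group
    _ = d.s * (o.r i * o.ke j * (o.r i)⁻¹) * d.s := by rw [← hs, hsi]; group
    _ = _ := by rw [o.r_ke]

theorem ke_ske (i j : Fin 3) : o.ke i * (d.s * o.ke j * d.s) = d.s * o.ke j * d.s * o.ke i := by
  obtain ⟨hc, hk, hp⟩ := d.rep_core (o.ke_rep i)
  obtain ⟨hc', hk', hp'⟩ := d.rep_core (o.ke_rep j)
  refine (S.core_comm_iff d.hs hc (d.core_s hc')).2 ?_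
  rw [d.kap_s, d.par_s, hk, hp, hk', hp', bf_zero_left, bf_zero_left, bf_zero_right,
    plane_facts.2.1 _ _ (plane_facts.1 i) (plane_facts.1 j)]
  exact ⟨rfl, rfl⟩

theorem isElem : IsElem o.L := by
  have za : z * a = a * z := S.P.p.az.symm
  have key : ∀ b ∈ o.L, b * b = 1 ∧ S.Cen b := by
    intro b hb
    simp only [L, List.mem_cons, List.not_mem_nil, or_false] at hb
    have ck := fun i => S.cen_q (o.ke_rep i).1 (d.rep_y1 (o.ke_rep i))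
    rcases hb with rfl | rfl | rfl | rfl | rfl | rfl | rfl | rfl | rfl | rfl | rfl
    · exact ⟨o.r_sq 0, (o.hR 0).1.1⟩
    · exact ⟨o.r_sq 1, (o.hR 1).1.1⟩
    · exact ⟨o.r_sq 2, (o.hR 2).1.1⟩
    · exact ⟨o.ke_sq 0, ck 0⟩
    · exact ⟨o.ke_sq 1, ck 1⟩
    · exact ⟨o.ke_sq 2, ck 2⟩
    · exact ⟨o.ske_sq 0, o.ske_cen 0⟩
    · exact ⟨o.ske_sq 1, o.ske_cen 1⟩
    · exact ⟨o.ske_sq 2, o.ske_cen 2⟩
    · exact ⟨S.h.zz, rfl, za⟩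
    · exact ⟨S.h'.zz, za.symm, rfl⟩
  refine ⟨fun b hb => (key b hb).1, fun b hb c hc => ?_⟩
  have h1 : ∀ i j, o.r i * o.ke j = o.ke j * o.r i := fun i j => mul_inv_eq_iff_eq_mul.1 (o.r_ke i j)
  have h2 : ∀ i j, o.r i * (d.s * o.ke j * d.s) = d.s * o.ke j * d.s * o.r i :=
    fun i j => mul_inv_eq_iff_eq_mul.1 (o.r_ske i j)
  have h3 : ∀ i j, d.s * o.ke i * d.s * (d.s * o.ke j * d.s) = d.s * o.ke j * d.s * (d.s * o.ke i * d.s) :=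
    fun i j => by rw [← d.s_conj, o.ke_comm, d.s_conj]
  have hbC := (key b hb).2
  have hcC := (key c hc).2
  simp only [L, List.mem_cons, List.not_mem_nil, or_false] at hb hc
  rcases hb with rfl | rfl | rfl | rfl | rfl | rfl | rfl | rfl | rfl | rfl | rfl <;>
    rcases hc with rfl | rfl | rfl | rfl | rfl | rfl | rfl | rfl | rfl | rfl | rfl <;>
    first
      | rfl | exact hbC.1 | exact hbC.2 | exact hcC.1.symm | exact hcC.2.symm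
      | apply o.r_comm | apply h1 | exact (h1 _ _).symm | apply h2 | exact (h2 _ _).symm
      | apply o.ke_comm | apply o.ke_ske | exact (o.ke_ske _ _).symm | apply h3

/-- Eleven values give a table. -/
theorem act_mk {g : G} {m0 m1 m2 m3 m4 m5 m6 m7 m8 m9 m10 : ℕ}
    (e0 : g * o.r 0 * g⁻¹ = ev o.L m0) (e1 : g * o.r 1 * g⁻¹ = ev o.L m1)
    (e2 : g * o.r 2 * g⁻¹ = ev o.L m2) (e3 : g * o.ke 0 * g⁻¹ = ev o.L m3)
    (e4 : g * o.ke 1 * g⁻¹ = ev o.L m4) (e5 : g * o.ke 2 * g⁻¹ = ev o.L m5)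
    (e6 : g * (d.s * o.ke 0 * d.s) * g⁻¹ = ev o.L m6) (e7 : g * (d.s * o.ke 1 * d.s) * g⁻¹ = ev o.L m7)
    (e8 : g * (d.s * o.ke 2 * d.s) * g⁻¹ = ev o.L m8) (e9 : g * z * g⁻¹ = ev o.L m9)
    (e10 : g * a * g⁻¹ = ev o.L m10) : o.Act g [m0, m1, m2, m3, m4, m5, m6, m7, m8, m9, m10] :=
  .cons e0 <| .cons e1 <| .cons e2 <| .cons e3 <| .cons e4 <| .cons e5 <| .cons e6 <| .cons e7 <|
    .cons e8 <| .cons e9 <| .cons e10 .nil

theorem act_s : o.Act d.s [1, 2, 4, 64, 128, 256, 8, 16, 32, 1024, 512] := by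
  have hr : ∀ i, d.s * o.r i * d.s = o.r i := fun i => by
    rw [d.lm_comm_s (o.hR i).1, mul_assoc, d.hss, mul_one]
  refine o.act_mk ?_ ?_ ?_ ?_ ?_ ?_ ?_ ?_ ?_ ?_ ?_ <;> rw [d.si] <;>
    (try simp only [hr, d.s_inj, d.sz, d.sa]) <;> simp [L, ev]

theorem act_q : o.Act d.q [1, 2, 4, 8, 16, 32, 72, 144, 288, 512, 1536] := by
  have hr : ∀ i, d.q * o.r i * d.q = o.r i := fun i => by
    rw [← (o.hR i).1.2.1, mul_assoc, d.qq, mul_one]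
  have hk : ∀ i, d.q * o.ke i * d.q = o.ke i := fun i => d.rep_q (o.ke_rep i)
  have hz : d.q * z * d.q = z := by rw [d.qz, mul_assoc, d.qq, mul_one]
  refine o.act_mk ?_ ?_ ?_ ?_ ?_ ?_ ?_ ?_ ?_ ?_ ?_ <;> rw [d.qi] <;>
    simp only [hr, hk, o.q_ske, hz, d.qa] <;> simp [L, ev]

/-- Conjugating a root element by a representative. -/
theorem x_conj_r {i j : Fin 3} {e : G} (h : o.r i * o.kx j * (o.r i)⁻¹ = e * o.kx j) :
    o.kx j * o.r i * (o.kx j)⁻¹ = o.r i * e := by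
  have hx : (o.kx j)⁻¹ = o.kx j := inv_eq_of_mul_eq_one_right (o.kx_sq j)
  have he : e = o.r i * o.kx j * (o.r i)⁻¹ * o.kx j := by rw [h, mul_assoc, o.kx_sq, mul_one]
  rw [hx, he, o.r_inv]
  calc o.kx j * o.r i * o.kx j = (o.r i * o.r i) * o.kx j * o.r i * o.kx j := by rw [o.r_sq, one_mul]
    _ = _ := by group

theorem x_ke (i j : Fin 3) :
    o.kx i * o.ke j * (o.kx i)⁻¹ = zp z (if i = j then 1 else 0) * o.ke j := by
  rw [o.kx_ke, ← mul_assoc, mul_inv_cancel_right]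

theorem x_ske (i j : Fin 3) : o.kx i * (d.s * o.ke j * d.s) * (o.kx i)⁻¹ =
    zp z (if i = j then 1 else 0) * zp a (if i = j then 1 else 0) * (d.s * o.ke j * d.s) := by
  obtain ⟨hc, hk, hp⟩ := d.rep_core (o.kx_rep i)
  obtain ⟨hc', hk', hp'⟩ := d.rep_core (o.ke_rep j)
  rw [S.core_comm' d.hs hc (d.core_s hc'), d.kap_s, d.par_s, hk, hp, hk', hp', plane_facts.2.2.2.2.2,
    bf_zero_left, bf_zero_left, bf_zero_right]
  simp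

theorem x_z (i : Fin 3) : o.kx i * z * (o.kx i)⁻¹ = z := S.h.conj_z (o.kx_rep i).1

theorem x_a (i : Fin 3) : o.kx i * a * (o.kx i)⁻¹ = a := by
  rw [(S.comm_a_iff (o.kx_rep i).1).2 (d.rep_y1 (o.kx_rep i)), mul_inv_cancel_right]

theorem act_kx0 : o.Act (o.kx 0) [513, 34, 20, 520, 16, 32, 1600, 128, 256, 512, 1024] := by
  obtain ⟨h, -, -⟩ := o.cols
  obtain ⟨c0, c1, c2⟩ := h (o.kx_rep 0)
  refine o.act_mk ?_ ?_ ?_ ?_ ?_ ?_ ?_ ?_ ?_ ?_ ?_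
  · rw [o.x_conj_r c0]; simp [L, ev]
  · rw [o.x_conj_r c1]; simp [L, ev]
  · rw [o.x_conj_r c2]; simp [L, ev]
  iterate 3 rw [o.x_ke, ← zp_comm (S.qz (o.ke_rep _).1)]; simp [L, ev, zp_zero, zp_one]
  iterate 3 rw [o.x_ske, ← S.comm_four (o.ske_cen _)]; simp [L, ev, zp_zero, zp_one]
  · rw [o.x_z]; simp [L, ev]
  · rw [o.x_a]; simp [L, ev]

theorem act_kx1 : o.Act (o.kx 1) [545, 514, 12, 8, 528, 32, 64, 1664, 256, 512, 1024] := by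
  obtain ⟨-, h, -⟩ := o.cols
  obtain ⟨c0, c1, c2⟩ := h (o.kx_rep 1)
  refine o.act_mk ?_ ?_ ?_ ?_ ?_ ?_ ?_ ?_ ?_ ?_ ?_
  · rw [o.x_conj_r c0]; simp [L, ev, S.qz (o.ke_rep 2).1]
  · rw [o.x_conj_r c1]; simp [L, ev]
  · rw [o.x_conj_r c2]; simp [L, ev]
  iterate 3 rw [o.x_ke, ← zp_comm (S.qz (o.ke_rep _).1)]; simp [L, ev, zp_zero, zp_one]
  iterate 3 rw [o.x_ske, ← S.comm_four (o.ske_cen _)]; simp [L, ev, zp_zero, zp_one]
  · rw [o.x_z]; simp [L, ev]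
  · rw [o.x_a]; simp [L, ev]

theorem act_kx2 : o.Act (o.kx 2) [529, 522, 516, 8, 16, 544, 64, 128, 1792, 512, 1024] := by
  obtain ⟨-, -, h⟩ := o.cols
  obtain ⟨c0, c1, c2⟩ := h (o.kx_rep 2)
  refine o.act_mk ?_ ?_ ?_ ?_ ?_ ?_ ?_ ?_ ?_ ?_ ?_
  · rw [o.x_conj_r c0]; simp [L, ev, S.qz (o.ke_rep 1).1]
  · rw [o.x_conj_r c1]; simp [L, ev, S.qz (o.ke_rep 0).1]
  · rw [o.x_conj_r c2]; simp [L, ev]
  iterate 3 rw [o.x_ke, ← zp_comm (S.qz (o.ke_rep _).1)]; simp [L, ev, zp_zero, zp_one]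
  iterate 3 rw [o.x_ske, ← S.comm_four (o.ske_cen _)]; simp [L, ev, zp_zero, zp_one]
  · rw [o.x_z]; simp [L, ev]
  · rw [o.x_a]; simp [L, ev]

theorem z_right (i : Fin 3) : z * o.ke i = o.ke i * z := (S.qz (o.ke_rep i).1).symm

theorem z_right' (i : Fin 3) (x : G) : z * (o.ke i * x) = o.ke i * (z * x) := by
  rw [← mul_assoc, o.z_right, mul_assoc]

theorem a_right (i : Fin 3) : a * (d.s * o.ke i * d.s) = d.s * o.ke i * d.s * a := (o.ske_cen i).2.symm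

theorem a_right' (i : Fin 3) (x : G) :
    a * (d.s * o.ke i * d.s * x) = d.s * o.ke i * d.s * (a * x) := by
  rw [← mul_assoc, o.a_right, mul_assoc]

omit o in
theorem lm_za {g : G} (hg : d.Lm g) : g * z * g⁻¹ = z ∧ g * a * g⁻¹ = a :=
  ⟨mul_inv_eq_iff_eq_mul.2 hg.1.1, mul_inv_eq_iff_eq_mul.2 hg.1.2⟩

omit o in
theorem lm_skes {g : G} (hg : d.Lm g) (k : G) : g * (d.s * k * d.s) * g⁻¹ = d.s * (g * k * g⁻¹) * d.s := by
  have hsi := d.lm_comm_s (d.lm_inv hg)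
  calc g * (d.s * k * d.s) * g⁻¹ = (g * d.s) * k * (d.s * g⁻¹) := by group
    _ = _ := by rw [← d.lm_comm_s hg, hsi]; group

theorem gA_ke : o.gA * o.ke 0 * o.gA⁻¹ = z * o.ke 1 ∧ o.gA * o.ke 1 * o.gA⁻¹ = z * o.ke 2 ∧
    o.gA * o.ke 2 * o.gA⁻¹ = o.ke 0 := by
  obtain ⟨e0, e1, e2⟩ := o.r_shift
  obtain ⟨c2, c8, c32⟩ := o.cols
  obtain ⟨-, -, -, -, -, -, -, -, -, -, -, -, -, i14, -, i16⟩ := index_facts
  have i17 : fA 32 = 2 := by decide +kernel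
  have hz := (lm_za (d := d) o.hA.1).1
  have sq : ∀ {i : Fin 3} {k : G}, d.Rep (dI i) k → k * k = 1 := fun {i k} hk => by
    rw [d.rep_sq hk, plane_facts.2.2.2.1, zp_zero]
  refine ⟨?_, ?_, ?_⟩
  · have hx : d.Rep (dI 0) (o.gA * o.kx 2 * o.gA⁻¹) := rep_of (d.rep_conj o.hA (o.kx_rep 2)) i17
    calc o.gA * o.ke 0 * o.gA⁻¹ = (o.gA * z * o.gA⁻¹) * (((o.gA * o.r 1 * o.gA⁻¹) *
          (o.gA * o.kx 2 * o.gA⁻¹) * (o.gA * o.r 1 * o.gA⁻¹)⁻¹) * (o.gA * o.kx 2 * o.gA⁻¹)) := by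
            show o.gA * (z * (o.r 1 * o.kx 2 * (o.r 1)⁻¹ * o.kx 2)) * o.gA⁻¹ = _
            group
      _ = _ := by rw [hz, e1, (c2 hx).2.2, mul_assoc (o.ke 1), sq hx, mul_one]
  · have hx : d.Rep (dI 1) (o.gA * o.kx 0 * o.gA⁻¹) := rep_of (d.rep_conj o.hA (o.kx_rep 0)) i14
    calc o.gA * o.ke 1 * o.gA⁻¹ = (o.gA * o.r 2 * o.gA⁻¹) * (o.gA * o.kx 0 * o.gA⁻¹) *
          (o.gA * o.r 2 * o.gA⁻¹)⁻¹ * (o.gA * o.kx 0 * o.gA⁻¹) := by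
            show o.gA * (o.r 2 * o.kx 0 * (o.r 2)⁻¹ * o.kx 0) * o.gA⁻¹ = _
            group
      _ = _ := by rw [e2, (c8 hx).1, mul_assoc (z * o.ke 2), sq hx, mul_one]
  · have hx : d.Rep (dI 2) (o.gA * o.kx 1 * o.gA⁻¹) := rep_of (d.rep_conj o.hA (o.kx_rep 1)) i16
    calc o.gA * o.ke 2 * o.gA⁻¹ = (o.gA * z * o.gA⁻¹) * (((o.gA * o.r 0 * o.gA⁻¹) *
          (o.gA * o.kx 1 * o.gA⁻¹) * (o.gA * o.r 0 * o.gA⁻¹)⁻¹) * (o.gA * o.kx 1 * o.gA⁻¹)) := by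
            show o.gA * (z * (o.r 0 * o.kx 1 * (o.r 0)⁻¹ * o.kx 1)) * o.gA⁻¹ = _
            group
      _ = _ := by rw [hz, e0, (c32 hx).2.1, mul_assoc (z * o.ke 0), sq hx, mul_one, ← mul_assoc, S.h.zz, one_mul]

theorem act_gA : o.Act o.gA [2, 4, 1, 528, 544, 8, 1152, 1280, 64, 512, 1024] := by
  obtain ⟨e0, e1, e2⟩ := o.r_shift
  obtain ⟨k0, k1, k2⟩ := o.gA_ke
  obtain ⟨hz, ha⟩ := lm_za (d := d) o.hA.1
  refine o.act_mk ?_ ?_ ?_ ?_ ?_ ?_ ?_ ?_ ?_ ?_ ?_ <;>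
    simp only [e0, e1, e2, k0, k1, k2, hz, ha, lm_skes (d := d) o.hA.1, d.s_conj z, d.sz] <;>
    simp [L, ev, o.z_right, o.z_right', o.a_right, o.a_right']

theorem gB_ke : o.gB * o.ke 0 * o.gB⁻¹ = z * (o.ke 0 * o.ke 1) ∧ o.gB * o.ke 1 * o.gB⁻¹ = o.ke 1 ∧
    o.gB * o.ke 2 * o.gB⁻¹ = z * o.ke 2 := by
  obtain ⟨e0, e1, e2⟩ := o.r_gB
  obtain ⟨c2, c8, c32⟩ := o.cols
  have i2 : fB 32 = 32 ∧ fB 2 = 2 := by decide +kernel
  have hz := (lm_za (d := d) o.hB.1).1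
  have sq : ∀ {i : Fin 3} {k : G}, d.Rep (dI i) k → k * k = 1 := fun {i k} hk => by
    rw [d.rep_sq hk, plane_facts.2.2.2.1, zp_zero]
  refine ⟨?_, ?_, ?_⟩
  · have hx : d.Rep (dI 2) (o.gB * o.kx 2 * o.gB⁻¹) := rep_of (d.rep_conj o.hB (o.kx_rep 2)) i2.1
    calc o.gB * o.ke 0 * o.gB⁻¹ = (o.gB * z * o.gB⁻¹) * (((o.gB * o.r 1 * o.gB⁻¹) *
          (o.gB * o.kx 2 * o.gB⁻¹) * (o.gB * o.r 1 * o.gB⁻¹)⁻¹) * (o.gB * o.kx 2 * o.gB⁻¹)) := by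
            show o.gB * (z * (o.r 1 * o.kx 2 * (o.r 1)⁻¹ * o.kx 2)) * o.gB⁻¹ = _
            group
      _ = z * ((o.r 0 * (o.r 1 * (o.gB * o.kx 2 * o.gB⁻¹) * (o.r 1)⁻¹) * (o.r 0)⁻¹) *
            (o.gB * o.kx 2 * o.gB⁻¹)) := by rw [hz, e1]; group
      _ = z * ((o.r 0 * z * (o.r 0)⁻¹) * (o.r 0 * o.ke 0 * (o.r 0)⁻¹) *
            (o.r 0 * (o.gB * o.kx 2 * o.gB⁻¹) * (o.r 0)⁻¹) * (o.gB * o.kx 2 * o.gB⁻¹)) := by
          rw [(c32 hx).2.1]; group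
      _ = z * (z * o.ke 0 * (z * o.ke 1 * ((o.gB * o.kx 2 * o.gB⁻¹) * (o.gB * o.kx 2 * o.gB⁻¹)))) := by
          rw [(lm_za (d := d) (o.hR 0).1).1, o.r_ke, (c32 hx).1]; group
      _ = _ := by
          rw [sq hx, mul_one, mul_assoc z (o.ke 0), ← mul_assoc (o.ke 0) z, S.qz (o.ke_rep 0).1,
            mul_assoc z (o.ke 0), ← mul_assoc z z, S.h.zz, one_mul]
  · have hx : d.Rep (dI 0) (o.gB * o.kx 0 * o.gB⁻¹) := rep_of (d.rep_conj o.hB (o.kx_rep 0)) i2.2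
    calc o.gB * o.ke 1 * o.gB⁻¹ = (o.gB * o.r 2 * o.gB⁻¹) * (o.gB * o.kx 0 * o.gB⁻¹) *
          (o.gB * o.r 2 * o.gB⁻¹)⁻¹ * (o.gB * o.kx 0 * o.gB⁻¹) := by
            show o.gB * (o.r 2 * o.kx 0 * (o.r 2)⁻¹ * o.kx 0) * o.gB⁻¹ = _
            group
      _ = _ := by rw [e2, (c2 hx).2.2, mul_assoc (o.ke 1), sq hx, mul_one]
  · obtain ⟨u, hu⟩ := d.rep_eq (d.rep_mul (o.kx_rep 0) (o.kx_rep 1))
      (rep_of (d.rep_conj o.hB (o.kx_rep 1)) (by decide +kernel : fB (dI 1) = dI 0 ^^^ dI 1))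
    have hxz : ∀ i : Fin 3, o.kx i * z = z * o.kx i := fun i => S.qz (o.kx_rep i).1
    have hx0e : o.kx 0 * o.ke 2 = o.ke 2 * o.kx 0 := by
      have := o.kx_ke 0 2
      simpa [zp_zero] using this
    have e3 : o.r 0 * (o.kx 0 * o.kx 1) * (o.r 0)⁻¹ = o.ke 2 * (o.kx 0 * o.kx 1) := by
      rw [← conj_mul, (c2 (o.kx_rep 0)).1, (c8 (o.kx_rep 1)).1, mul_assoc z (o.kx 0), ← mul_assoc (o.kx 0),
        ← mul_assoc (o.kx 0), hxz, mul_assoc z (o.kx 0), hx0e, ← mul_assoc z, ← mul_assoc z, S.h.zz, one_mul,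
        mul_assoc]
    have hu2 : (o.kx 0 * o.kx 1) * (o.kx 0 * o.kx 1) = 1 := by
      rw [o.kx_comm 0 1, mul_assoc, ← mul_assoc (o.kx 0), ← o.kx_comm 1 0, mul_assoc, o.kx_sq, mul_one,
        o.kx_sq]
    have hzu : ∀ x : G, x * z = z * x → x * zp z u = zp z u * x := fun x h => zp_comm h u
    calc o.gB * o.ke 2 * o.gB⁻¹ = (o.gB * z * o.gB⁻¹) * (((o.gB * o.r 0 * o.gB⁻¹) *
          (o.gB * o.kx 1 * o.gB⁻¹) * (o.gB * o.r 0 * o.gB⁻¹)⁻¹) * (o.gB * o.kx 1 * o.gB⁻¹)) := by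
            show o.gB * (z * (o.r 0 * o.kx 1 * (o.r 0)⁻¹ * o.kx 1)) * o.gB⁻¹ = _
            group
      _ = z * ((o.r 0 * zp z u * (o.r 0)⁻¹) * (o.r 0 * (o.kx 0 * o.kx 1) * (o.r 0)⁻¹) *
            (zp z u * (o.kx 0 * o.kx 1))) := by rw [hz, e0, hu]; group
      _ = z * (zp z u * (o.ke 2 * (o.kx 0 * o.kx 1) * zp z u) * (o.kx 0 * o.kx 1)) := by
          rw [lm_z (o.hR 0).1, e3]; group
      _ = z * (zp z u * zp z u * o.ke 2 * ((o.kx 0 * o.kx 1) * (o.kx 0 * o.kx 1))) := by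
          rw [hzu _ (mul_z (S.qz (o.ke_rep 2).1) (mul_z (hxz 0) (hxz 1)))]; group
      _ = _ := by rw [hu2, ← zp_add S.h.zz, CharTwo.add_self_eq_zero, zp_zero, one_mul, mul_one]

theorem act_gB : o.Act o.gB [1, 3, 4, 536, 16, 544, 1216, 128, 1280, 512, 1024] := by
  obtain ⟨e0, e1, e2⟩ := o.r_gB
  obtain ⟨k0, k1, k2⟩ := o.gB_ke
  obtain ⟨hz, ha⟩ := lm_za (d := d) o.hB.1
  refine o.act_mk ?_ ?_ ?_ ?_ ?_ ?_ ?_ ?_ ?_ ?_ ?_ <;>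
    simp only [e0, e1, e2, k0, k1, k2, hz, ha, lm_skes (d := d) o.hB.1, d.s_conj z, d.s_conj (o.ke 0), d.sz] <;>
    simp [L, ev, o.z_right, o.z_right', o.a_right, o.a_right']

end Oct

end Cfsg.Agent.ConwayType.Octad
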