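import Cfsg.Agent.Lib.ConwayType.Octad.Roots

/-!
The eleven generators of the elementary abelian subgroup and the elements acting on them.
-/

set_option autoImplicit false
set_option maxRecDepth 20000

namespace Cfsg.Agent.ConwayType.Octad

open Subgroup Cfsg.Agent.LargeExtra Cfsg.Agent.OctadInv.Orbits

theorem plane_facts : (∀ i : Fin 3, InP (eI i)) ∧ (∀ i j, InP i → InP j → bf (ww i) (ww j) = 0) ∧
    (∀ i, InP i → qf (ww i) = 0) ∧ (∀ i : Fin 3, qf (ww (dI i)) = 0) ∧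
    (∀ i j : Fin 3, bf (ww (dI i)) (ww (dI j)) = 0) ∧
    (∀ i j : Fin 3, bf (ww (dI i)) (ww (eI j)) = if i = j then 1 else 0) := by decide +kernel

theorem index_facts : fA (fB (fA (fA 32))) ^^^ 32 = 8 ∧ fB 8 ^^^ 8 = 2 ∧ fR 0 8 ^^^ 8 = 16 ∧
    fR 1 32 ^^^ 32 = 1 ∧ fR 2 2 ^^^ 2 = 4 ∧ fR 1 2 = 16 ^^^ 2 ∧ fR 2 8 = 1 ^^^ 8 ∧ fR 0 32 = 4 ^^^ 32 ∧
    fA 10 = 40 ∧ fA 40 = 34 ∧ fA 1 = 4 ∧ fB 1 = 5 ∧ fA 4 = 16 ∧ fA 2 = 8 ∧ fB 8 = 10 ∧ fA 8 = 32 := by
  decide +kernel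

variable {G : Type*} [Group G] [Finite G] {Q Q' : Subgroup G} {z a : G} {S : St Q Q' z a} {d : Gen S}

/-- Change of index. -/
theorem rep_of {i j : Fin 64} {k : G} (h : d.Rep i k) (e : i = j) : d.Rep j k := e ▸ h

namespace Oct

variable (o : Oct d)

/-- The representatives of the opposite plane. -/
noncomputable def kx : Fin 3 → G :=
  let x2 := (d.exists_rep 32).choose
  let x1 := o.gA * o.gB * o.gA⁻¹ * x2 * (o.gA * o.gB * o.gA⁻¹)⁻¹ * x2
  ![o.gB * x1 * o.gB⁻¹ * x1, x1, x2]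

/-- The representatives of the plane. -/
noncomputable def ke : Fin 3 → G :=
  ![z * (o.r 1 * o.kx 2 * (o.r 1)⁻¹ * o.kx 2), o.r 2 * o.kx 0 * (o.r 2)⁻¹ * o.kx 0,
    z * (o.r 0 * o.kx 1 * (o.r 0)⁻¹ * o.kx 1)]

/-- The list of generators. -/
noncomputable def L : List G :=
  [o.r 0, o.r 1, o.r 2, o.ke 0, o.ke 1, o.ke 2, d.s * o.ke 0 * d.s, d.s * o.ke 1 * d.s, d.s * o.ke 2 * d.s, z, a]

/-- Conjugation by an element in terms of images. -/
def Act (g : G) (I : List ℕ) : Prop := List.Forall₂ (fun b m => g * b * g⁻¹ = ev o.L m) o.L I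

theorem hgA' : d.Hb (fun i => fA (fB (fA (fA i)))) (o.gA * o.gB * o.gA⁻¹) :=
  hb_congr (d.hb_mul (d.hb_mul o.hA o.hB) o.hA') fun _ => rfl

theorem kx_rep : ∀ i, d.Rep (dI i) (o.kx i) := by
  have h2 : d.Rep 32 (o.kx 2) := (d.exists_rep 32).choose_spec
  have h1 : d.Rep 8 (o.kx 1) := index_facts.1 ▸ d.rep_mul (d.rep_conj o.hgA' h2) h2
  intro i
  fin_cases i
  · exact rep_of (d.rep_mul (d.rep_conj o.hB h1) h1) index_facts.2.1
  · exact h1
  · exact h2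

theorem kx_sq (i : Fin 3) : o.kx i * o.kx i = 1 := by
  rw [d.rep_sq (o.kx_rep i), plane_facts.2.2.2.1, zp_zero]

theorem ke_rep : ∀ i, d.Rep (eI i) (o.ke i) := by
  intro i
  fin_cases i
  · have := d.rep_z (d.rep_mul (d.rep_conj (o.hR 1) (o.kx_rep 2)) (o.kx_rep 2)) 1
    rw [zp_one, show dI 2 = 32 from rfl, index_facts.2.2.2.1] at this
    exact this
  · have := d.rep_mul (d.rep_conj (o.hR 2) (o.kx_rep 0)) (o.kx_rep 0)
    rw [show dI 0 = 2 from rfl, index_facts.2.2.2.2.1] at this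
    exact this
  · have := d.rep_z (d.rep_mul (d.rep_conj (o.hR 0) (o.kx_rep 1)) (o.kx_rep 1)) 1
    rw [zp_one, show dI 1 = 8 from rfl, index_facts.2.2.1] at this
    exact this

theorem ke_sq (i : Fin 3) : o.ke i * o.ke i = 1 := by
  rw [d.rep_sq (o.ke_rep i), plane_facts.2.2.1 _ (plane_facts.1 i), zp_zero]

theorem r_ke (i j : Fin 3) : o.r i * o.ke j * (o.r i)⁻¹ = o.ke j :=
  o.fix_plane i (plane_facts.1 j) (o.ke_rep j)

theorem ke_comm (i j : Fin 3) : o.ke i * o.ke j = o.ke j * o.ke i := by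
  rw [d.rep_comm (o.ke_rep i) (o.ke_rep j), plane_facts.2.1 _ _ (plane_facts.1 i) (plane_facts.1 j), zp_zero,
    one_mul]

theorem kx_comm (i j : Fin 3) : o.kx i * o.kx j = o.kx j * o.kx i := by
  rw [d.rep_comm (o.kx_rep i) (o.kx_rep j), plane_facts.2.2.2.2.1, zp_zero, one_mul]

theorem kx_ke (i j : Fin 3) :
    o.kx i * o.ke j = zp z (if i = j then 1 else 0) * (o.ke j * o.kx i) := by
  rw [d.rep_comm (o.kx_rep i) (o.ke_rep j), plane_facts.2.2.2.2.2]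

theorem lm_z {x : G} (hx : d.Lm x) (t : ZMod 2) : x * zp z t * x⁻¹ = zp z t := by
  rw [zp_comm hx.1.1, mul_inv_cancel_right]

/-- A column does not depend on the representative. -/
theorem col_any {i j : Fin 3} {e : G} {t : ZMod 2}
    (h : o.r i * o.kx j * (o.r i)⁻¹ = zp z t * e * o.kx j) {k : G} (hk : d.Rep (dI j) k) :
    o.r i * k * (o.r i)⁻¹ = zp z t * e * k := by
  obtain ⟨u, rfl⟩ := d.rep_eq (o.kx_rep j) hk
  have hec : Commute (zp z u) (zp z t * e) := by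
    have hez : e * z = z * e := by
      have h1 : (o.r i * o.kx j * (o.r i)⁻¹) * z = z * (o.r i * o.kx j * (o.r i)⁻¹) :=
        mul_z (mul_z (o.hR i).1.1.1 (S.qz (o.kx_rep j).1)) (inv_z (o.hR i).1.1.1)
      have h2 : e = zp z t * (o.r i * o.kx j * (o.r i)⁻¹) * (o.kx j)⁻¹ := by
        rw [h, ← mul_assoc, ← mul_assoc, ← zp_add S.h.zz, CharTwo.add_self_eq_zero, zp_zero, one_mul,
          mul_inv_cancel_right]
      rw [h2]
      exact mul_z (mul_z ((Commute.refl z).pow_left _).eq h1) (inv_z (S.qz (o.kx_rep j).1))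
    exact Commute.mul_right ((Commute.refl z).pow_pow _ _) ((show Commute e z from hez).symm.pow_left _)
  rw [← conj_mul, lm_z (o.hR i).1, h, ← mul_assoc, hec.eq, mul_assoc]

/-- The product of two root elements inverts the product of the two representatives. -/
theorem flip_pair : ∀ p : Fin 3, ∀ k : G, d.Rep (dI p ^^^ dI (p + 1)) k →
    o.r p * o.r (p + 1) * k * (o.r p * o.r (p + 1))⁻¹ = z * k := by
  have h01 : ∀ {k : G}, d.Rep 10 k → o.r 0 * o.r 1 * k * (o.r 0 * o.r 1)⁻¹ = zp z 1 * k := fun hk => by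
    rw [o.flip_two hk, zp_one]
  obtain ⟨e0, e1, e2⟩ := o.r_shift
  have e12 : o.gA * (o.r 0 * o.r 1) * o.gA⁻¹ = o.r 1 * o.r 2 := by rw [← conj_mul, e0, e1]
  have e20 : o.gA * (o.r 1 * o.r 2) * o.gA⁻¹ = o.r 2 * o.r 0 := by rw [← conj_mul, e1, e2]
  have h12 : ∀ {k : G}, d.Rep 40 k → o.r 1 * o.r 2 * k * (o.r 1 * o.r 2)⁻¹ = zp z 1 * k := fun hk => by
    rw [← e12]
    exact transport o.hA (d.lm_mul (o.hR 0).1 (o.hR 1).1) h01 (by rwa [index_facts.2.2.2.2.2.2.2.2.1])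
  have h20 : ∀ {k : G}, d.Rep 34 k → o.r 2 * o.r 0 * k * (o.r 2 * o.r 0)⁻¹ = zp z 1 * k := fun hk => by
    rw [← e20]
    exact transport o.hA (d.lm_mul (o.hR 1).1 (o.hR 2).1) h12
      (by rwa [index_facts.2.2.2.2.2.2.2.2.2.1])
  intro p k hk
  fin_cases p
  · exact (h01 hk).trans (by rw [zp_one])
  · exact (h12 hk).trans (by rw [zp_one])
  · exact (h20 hk).trans (by rw [zp_one])

theorem col_other (p : Fin 3) {e : G} {t : ZMod 2} {je : Fin 64} (he : d.Rep je e) (hje : InP je)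
    (hb1 : bf (ww (dI p)) (ww je) = 0) (hix : fR (p + 1) (dI p) = je ^^^ dI p)
    (h : o.r p * o.kx (p + 1) * (o.r p)⁻¹ = zp z t * e * o.kx (p + 1)) :
    o.r (p + 1) * o.kx p * (o.r (p + 1))⁻¹ = zp z (t + 1) * e * o.kx p := by
  obtain ⟨u, hu⟩ := d.rep_eq (d.rep_mul he (o.kx_rep p)) (hix ▸ d.rep_conj (o.hR (p + 1)) (o.kx_rep p))
  rw [mul_assoc (zp z t) e] at h
  have hfl := o.flip_pair p _ (d.rep_mul (o.kx_rep p) (o.kx_rep (p + 1)))
  have hce : o.kx p * e = e * o.kx p := by rw [d.rep_comm (o.kx_rep p) he, hb1, zp_zero, one_mul]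
  have hee : e * e = 1 := by rw [d.rep_sq he, plane_facts.2.2.1 _ hje, zp_zero]
  have hez : ∀ t, e * zp z t = zp z t * e := fun t => zp_comm (S.qz he.1) t
  have hxz : ∀ i t, o.kx i * zp z t = zp z t * o.kx i := fun i t => zp_comm (S.qz (o.kx_rep i).1) t
  have hz1 : zp z 1 = z := zp_one z
  have hcomp : o.r p * o.r (p + 1) * (o.kx p * o.kx (p + 1)) * (o.r p * o.r (p + 1))⁻¹ =
      zp z (u + t) * (o.kx p * o.kx (p + 1)) := by
    calc o.r p * o.r (p + 1) * (o.kx p * o.kx (p + 1)) * (o.r p * o.r (p + 1))⁻¹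
        = o.r p * ((o.r (p + 1) * o.kx p * (o.r (p + 1))⁻¹) * (o.r (p + 1) * o.kx (p + 1) * (o.r (p + 1))⁻¹)) *
            (o.r p)⁻¹ := by group
      _ = o.r p * (zp z u * (e * o.kx p) * (zp z 1 * o.kx (p + 1))) * (o.r p)⁻¹ := by
          rw [hu, o.flip_own (p + 1) (o.kx_rep (p + 1)), hz1]
      _ = (o.r p * zp z u * (o.r p)⁻¹) * ((o.r p * e * (o.r p)⁻¹) * (o.r p * o.kx p * (o.r p)⁻¹)) *
            ((o.r p * zp z 1 * (o.r p)⁻¹) * (o.r p * o.kx (p + 1) * (o.r p)⁻¹)) := by group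
      _ = zp z u * (e * (zp z 1 * o.kx p)) * (zp z 1 * (zp z t * (e * o.kx (p + 1)))) := by
          rw [lm_z (o.hR p).1, lm_z (o.hR p).1, o.fix_plane p hje he, o.flip_own p (o.kx_rep p), h, hz1]
      _ = zp z u * (zp z 1 * (zp z 1 * (zp z t * (e * (o.kx p * e) * o.kx (p + 1))))) := by
          simp only [mul_assoc]
          rw [← mul_assoc e (zp z 1), hez, mul_assoc, ← mul_assoc (o.kx p) (zp z 1), hxz, mul_assoc,
            ← mul_assoc e (zp z 1), hez, mul_assoc, ← mul_assoc (o.kx p) (zp z t), hxz, mul_assoc,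
            ← mul_assoc e (zp z t), hez, mul_assoc]
      _ = zp z u * (zp z 1 * (zp z 1 * (zp z t * (o.kx p * o.kx (p + 1))))) := by
          rw [hce, ← mul_assoc e e, hee, one_mul]
      _ = _ := by
          rw [← mul_assoc (zp z 1), ← zp_add S.h.zz, CharTwo.add_self_eq_zero, zp_zero, one_mul,
            ← mul_assoc, ← zp_add S.h.zz]
  rw [hcomp] at hfl
  have hut : u + t = 1 := by
    rcases z2 (u + t) with h0 | h0
    · rw [h0, zp_zero, one_mul, right_eq_mul] at hfl; exact absurd hfl S.h.ne_one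
    · exact h0
  rw [hu, show u = t + 1 by
    rw [← hut]; rcases z2 u with rfl | rfl <;> rcases z2 t with rfl | rfl <;> decide, mul_assoc]

/-- The nine columns. -/
theorem cols :
    (∀ {k : G}, d.Rep 2 k → o.r 0 * k * (o.r 0)⁻¹ = z * k ∧ o.r 1 * k * (o.r 1)⁻¹ = o.ke 2 * k ∧
      o.r 2 * k * (o.r 2)⁻¹ = o.ke 1 * k) ∧
    (∀ {k : G}, d.Rep 8 k → o.r 0 * k * (o.r 0)⁻¹ = z * o.ke 2 * k ∧ o.r 1 * k * (o.r 1)⁻¹ = z * k ∧
      o.r 2 * k * (o.r 2)⁻¹ = o.ke 0 * k) ∧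
    ∀ {k : G}, d.Rep 32 k → o.r 0 * k * (o.r 0)⁻¹ = z * o.ke 1 * k ∧
      o.r 1 * k * (o.r 1)⁻¹ = z * o.ke 0 * k ∧ o.r 2 * k * (o.r 2)⁻¹ = z * k := by
  have hz : zp z 1 = z := zp_one z
  have hdef : ∀ {x y : G}, y * y = 1 → x = zp z 1 * (z * (x * y)) * y := fun {x y} hy => by
    rw [hz, ← mul_assoc z z, S.h.zz, one_mul, mul_assoc, hy, mul_one]
  have c01 : o.r 0 * o.kx 1 * (o.r 0)⁻¹ = zp z 1 * o.ke 2 * o.kx 1 := hdef (o.kx_sq 1)
  have c12 : o.r 1 * o.kx 2 * (o.r 1)⁻¹ = zp z 1 * o.ke 0 * o.kx 2 := hdef (o.kx_sq 2)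
  have c20 : o.r 2 * o.kx 0 * (o.r 2)⁻¹ = zp z 0 * o.ke 1 * o.kx 0 := by
    show _ = zp z 0 * (o.r 2 * o.kx 0 * (o.r 2)⁻¹ * o.kx 0) * o.kx 0
    rw [zp_zero, one_mul, mul_assoc (o.r 2 * o.kx 0 * (o.r 2)⁻¹), o.kx_sq, mul_one]
  obtain ⟨i1, i2, i3, i4, i5, i6, i7, i8, -⟩ := index_facts
  have c10 := o.col_other 0 (o.ke_rep 2) (plane_facts.1 2) (plane_facts.2.2.2.2.2 0 2) i6 c01
  have c21 := o.col_other 1 (o.ke_rep 0) (plane_facts.1 0) (plane_facts.2.2.2.2.2 1 0) i7 c12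
  have c02 := o.col_other 2 (o.ke_rep 1) (plane_facts.1 1) (plane_facts.2.2.2.2.2 2 1) i8 c20
  have h11 : (1 : ZMod 2) + 1 = 0 := rfl
  refine ⟨fun {k} hk => ⟨o.flip_own 0 hk, ?_, ?_⟩, fun {k} hk => ⟨?_, o.flip_own 1 hk, ?_⟩,
    fun {k} hk => ⟨?_, ?_, o.flip_own 2 hk⟩⟩
  · have h := o.col_any c10 hk
    simpa [h11, zp_zero] using h
  · simpa [zp_zero] using o.col_any c20 hk
  · simpa [hz] using o.col_any c01 hk
  · have h := o.col_any c21 hk
    simpa [h11, zp_zero] using h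
  · have h := o.col_any c02 hk
    simpa [hz] using h
  · simpa [hz] using o.col_any c12 hk

end Oct

/-! ### The defect of `q` on the second copy -/

/-- The defect. -/
def Dq (d : Gen S) (k : G) (t t' : ZMod 2) : Prop :=
  d.q * (d.s * k * d.s) * d.q = zp z t * zp a t' * (k * (d.s * k * d.s))

theorem dq_exists {i : Fin 64} {k : G} (hk : d.Rep i k) : ∃ t t', Dq d k t t' := by
  obtain ⟨hc, hκ, hp⟩ := d.rep_core hk
  have hs := d.core_s hc
  obtain ⟨hq, hqk, hqp⟩ := d.core_qc hs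
  have hprod := S.core_mul hc hs
  have hcp := S.core_mul hq (S.core_inv hprod)
  have e1 : S.kap d.s (d.q * (d.s * k * d.s) * d.q) = S.kap d.s (k * (d.s * k * d.s)) := by
    rw [hqk, S.kap_mul d.hs hc hs.1, d.kap_s, hp, d.par_s, hκ, zero_add, add_zero]
  have e2 : S.par (d.q * (d.s * k * d.s) * d.q) = S.par (k * (d.s * k * d.s)) := by
    rw [hqp, S.par_core_mul hc hs.1, hp, zero_add]
  set x := d.q * (d.s * k * d.s) * d.q
  set y := k * (d.s * k * d.s)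
  have f1 := S.kap_mul d.hs hcp hprod.1
  have f2 := S.par_core_mul hcp hprod.1
  rw [inv_mul_cancel_right, e1, right_eq_add] at f1
  rw [inv_mul_cancel_right, e2, right_eq_add] at f2
  obtain ⟨t, t', h⟩ := S.core_zero d.hs hcp f1 f2
  exact ⟨t, t', mul_inv_eq_iff_eq_mul.1 h⟩

theorem dq_rep {i : Fin 64} {k l : G} (hk : d.Rep i k) (hl : d.Rep i l) {t t' : ZMod 2} (h : Dq d k t t') :
    Dq d l t t' := by
  obtain ⟨u, rfl⟩ := d.rep_eq hk hl
  have hs : d.s * zp z u * d.s = zp a u := by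
    have := d.s_four u 0
    rwa [zp_zero, mul_one, zp_zero, one_mul] at this
  have hq : d.q * zp a u * d.q = zp z u * zp a u := by
    have := d.q_four 0 u
    rwa [zp_zero, one_mul, zero_add] at this
  unfold Dq at h ⊢
  have hka : k * zp a u = zp a u * k := zp_comm (z := a) ((S.comm_a_iff hk.1).2 (d.rep_y1 hk)) u
  rw [d.s_conj, hs, d.q_conj, hq, h, ← mul_assoc (zp z u * zp a u) (zp z t * zp a t'), S.four_mul,
    show zp z u * k * (zp a u * (d.s * k * d.s)) = zp z u * (k * zp a u) * (d.s * k * d.s) by group, hka,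
    show zp z t * zp a t' * (zp z u * (zp a u * k) * (d.s * k * d.s)) =
      zp z t * zp a t' * (zp z u * zp a u) * (k * (d.s * k * d.s)) by group, S.four_mul, add_comm t u,
    add_comm t' u]

theorem dq_conj {f : Fin 64 → Fin 64} {g k : G} (hg : d.Hb f g) {t t' : ZMod 2} (h : Dq d k t t') :
    Dq d (g * k * g⁻¹) t t' := by
  have hs : d.s * g = g * d.s := d.lm_comm_s hg.1
  have hsi : d.s * g⁻¹ = g⁻¹ * d.s := d.lm_comm_s (d.lm_inv hg.1)
  have hq : d.q * g = g * d.q := hg.1.2.1.symm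
  have hqi : d.q * g⁻¹ = g⁻¹ * d.q := (d.lm_inv hg.1).2.1.symm
  have e1 : ∀ w, d.s * (g * w * g⁻¹) * d.s = g * (d.s * w * d.s) * g⁻¹ := fun w => by
    simp only [mul_assoc]; rw [← hsi, ← mul_assoc d.s g, hs, mul_assoc]
  have e2 : ∀ w, d.q * (g * w * g⁻¹) * d.q = g * (d.q * w * d.q) * g⁻¹ := fun w => by
    simp only [mul_assoc]; rw [← hqi, ← mul_assoc d.q g, hq, mul_assoc]
  unfold Dq at h ⊢
  rw [e1, e2, h, conj_mul, ← conj_mul, four_comm hg.1.1.1 hg.1.1.2, mul_inv_cancel_right]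

theorem dq_mul {i j : Fin 64} {k l : G} (hk : d.Rep i k) (hl : d.Rep j l) (hb : bf (ww i) (ww j) = 0)
    {t t' u u' : ZMod 2} (h1 : Dq d k t t') (h2 : Dq d l u u') : Dq d (k * l) (t + u) (t' + u') := by
  obtain ⟨hck, hκk, hpk⟩ := d.rep_core hk
  obtain ⟨hcl, hκl, hpl⟩ := d.rep_core hl
  have hcs := d.core_s hck
  have hsl : d.s * k * d.s * l = l * (d.s * k * d.s) := by
    refine (S.core_comm_iff d.hs hcs hcl).2 ?_
    rw [d.kap_s, hpk, d.par_s, hκk, hκl, hpl, hb, bf_zero_left, bf_zero_right]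
    exact ⟨rfl, rfl⟩
  unfold Dq at h1 h2 ⊢
  have hfour : k * (d.s * k * d.s) * (zp z u * zp a u') = zp z u * zp a u' * (k * (d.s * k * d.s)) :=
    S.comm_four (S.cen_mul hck.1 hcs.1) u u'
  rw [d.s_conj, d.q_conj, h1, h2]
  calc zp z t * zp a t' * (k * (d.s * k * d.s)) * (zp z u * zp a u' * (l * (d.s * l * d.s)))
      = zp z t * zp a t' * ((k * (d.s * k * d.s)) * (zp z u * zp a u')) * (l * (d.s * l * d.s)) := by group
    _ = zp z t * zp a t' * (zp z u * zp a u') * (k * (d.s * k * d.s * l) * (d.s * l * d.s)) := by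
        rw [hfour]; group
    _ = _ := by rw [S.four_mul, hsl]; group

theorem dq_zero {f g : Fin 64 → Fin 64} {x y : G} (hx : d.Hb f x) (hy : d.Hb g y) {i : Fin 64}
    (hg : g i = i ^^^ f i) (hb : bf (ww i) (ww (f i)) = 0) {k : G} (hk : d.Rep i k) :
    Dq d k 0 0 ∧ Dq d (x * k * x⁻¹) 0 0 := by
  obtain ⟨t, t', h⟩ := dq_exists hk
  have h1 := dq_conj hx h
  have h2 := dq_mul hk (d.rep_conj hx hk) hb h h1
  have h3 := dq_rep (hg ▸ d.rep_conj hy hk) (d.rep_mul hk (d.rep_conj hx hk)) (dq_conj hy h)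
  unfold Dq at h2 h3
  rw [CharTwo.add_self_eq_zero, CharTwo.add_self_eq_zero, h3, mul_left_inj] at h2
  obtain ⟨rfl, rfl⟩ := S.four_inj h2
  exact ⟨h, h1⟩

theorem dq_use {k : G} (h : Dq d k 0 0) : d.q * (d.s * k * d.s) * d.q = k * (d.s * k * d.s) := by
  unfold Dq at h
  rwa [zp_zero, zp_zero, one_mul, one_mul] at h

namespace Oct

variable (o : Oct d)

theorem q_ske : ∀ i, d.q * (d.s * o.ke i * d.s) * d.q = o.ke i * (d.s * o.ke i * d.s) := by
  obtain ⟨-, -, -, -, -, -, -, -, -, -, i11, i12, i13, -⟩ := index_facts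
  have h := dq_zero o.hA o.hB (i := 1) (k := o.ke 0)
    (by rw [i12, i11]; decide) (by rw [i11]; decide +kernel) (o.ke_rep 0)
  have h1 : Dq d (o.ke 1) 0 0 := dq_rep (rep_of (d.rep_conj o.hA (o.ke_rep 0)) i11) (o.ke_rep 1) h.2
  intro i
  fin_cases i
  · exact dq_use h.1
  · exact dq_use h1
  · exact dq_use (dq_rep (rep_of (d.rep_conj o.hA (o.ke_rep 1)) i13) (o.ke_rep 2) (dq_conj o.hA h1))

theorem q_skx : ∀ i, d.q * (d.s * o.kx i * d.s) * d.q = o.kx i * (d.s * o.kx i * d.s) := by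
  obtain ⟨-, -, -, -, -, -, -, -, -, -, -, -, -, i14, i15, i16⟩ := index_facts
  have hi : fA (fA 8) = 2 := by decide +kernel
  have h := dq_zero (d.hb_mul o.hA o.hA) o.hB (i := 8) (k := o.kx 1)
    (by rw [i15, Function.comp_apply, hi]; decide) (by rw [Function.comp_apply, hi]; decide +kernel) (o.kx_rep 1)
  intro i
  fin_cases i
  · exact dq_use (dq_rep (rep_of (d.rep_conj (d.hb_mul o.hA o.hA) (o.kx_rep 1)) hi)
      (o.kx_rep 0) h.2)
  · exact dq_use h.1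
  · exact dq_use (dq_rep (rep_of (d.rep_conj o.hA (o.kx_rep 1)) i16) (o.kx_rep 2) (dq_conj o.hA h.1))

end Oct

end Cfsg.Agent.ConwayType.Octad
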