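import Cfsg.Agent.Lib.Golay.Basic

/-!
Products of commuting involutions selected by the bits of a number.
-/

set_option autoImplicit false

namespace Cfsg.Agent.ConwayType.Octad

open Cfsg.Agent.Golay.Basic

variable {G : Type*} [Group G]

/-- The product of the entries selected by the bits. -/
def ev : List G → ℕ → G
  | [], _ => 1
  | b :: L, x => b ^ (x % 2) * ev L (x / 2)

/-- Commuting involutions. -/
def IsElem (L : List G) : Prop := (∀ b ∈ L, b * b = 1) ∧ ∀ b ∈ L, ∀ c ∈ L, b * c = c * b

theorem ev_zero : ∀ L : List G, ev L 0 = 1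
  | [] => rfl
  | b :: L => by simp [ev, ev_zero L]

theorem ev_comm {g : G} : ∀ (L : List G), (∀ b ∈ L, g * b = b * g) → ∀ x, g * ev L x = ev L x * g
  | [], _, x => by simp [ev]
  | b :: L, h, x => by
    have h1 : Commute g (b ^ (x % 2)) := (show Commute g b from h b List.mem_cons_self).pow_right _
    have h2 : Commute g (ev L (x / 2)) := ev_comm L (fun c hc => h c (List.mem_cons_of_mem _ hc)) _
    exact (h1.mul_right h2).eq

theorem ev_mem {K : Subgroup G} : ∀ (L : List G), (∀ b ∈ L, b ∈ K) → ∀ x, ev L x ∈ K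
  | [], _, _ => K.one_mem
  | b :: L, h, x => K.mul_mem (K.pow_mem (h b List.mem_cons_self) _)
      (ev_mem L (fun c hc => h c (List.mem_cons_of_mem _ hc)) _)

theorem ev_xor : ∀ {L : List G}, IsElem L → ∀ x y, ev L (x ^^^ y) = ev L x * ev L y
  | [], _, x, y => by simp [ev]
  | b :: L, h, x, y => by
    have hL : IsElem L := ⟨fun c hc => h.1 c (List.mem_cons_of_mem _ hc),
      fun c hc e he => h.2 c (List.mem_cons_of_mem _ hc) e (List.mem_cons_of_mem _ he)⟩
    have hb : b * b = 1 := h.1 b List.mem_cons_self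
    have hc : Commute (b ^ (y % 2)) (ev L (x / 2)) :=
      (show Commute b (ev L (x / 2)) from
        ev_comm L (fun c hc => h.2 b List.mem_cons_self c (List.mem_cons_of_mem _ hc)) _).pow_left _
    have hxy := Nat.xor_mod_two_eq_one (a := x) (b := y)
    have hp : b ^ ((x ^^^ y) % 2) = b ^ (x % 2) * b ^ (y % 2) := by
      rcases Nat.mod_two_eq_zero_or_one x with ha | ha <;> rcases Nat.mod_two_eq_zero_or_one y with hb' | hb' <;>
        rcases Nat.mod_two_eq_zero_or_one (x ^^^ y) with hab | hab <;> simp [ha, hb', hab, hb] at hxy ⊢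
    simp only [ev, Nat.xor_div_two]
    rw [ev_xor hL, hp, mul_assoc (b ^ (x % 2)), ← mul_assoc (b ^ (y % 2)), hc.eq, ← mul_assoc, ← mul_assoc,
      ← mul_assoc]

theorem ev_self {L : List G} (h : IsElem L) (x : ℕ) : ev L x * ev L x = 1 := by
  rw [← ev_xor h, Nat.xor_self, ev_zero]

/-- Conjugation in terms of the images of the entries. -/
theorem ev_conj {L : List G} (h : IsElem L) (g : G) : ∀ {L' : List G} {I : List ℕ},
    List.Forall₂ (fun b m => g * b * g⁻¹ = ev L m) L' I → ∀ x, g * ev L' x * g⁻¹ = ev L (enc I x)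
  | _, _, .nil, x => by simp [ev, enc, ev_zero]
  | b :: L', m :: I, .cons hb hr, x => by
    have ih := ev_conj h g hr (x / 2)
    simp only [ev, enc]
    rw [ev_xor h, ← conj_mul, ih]
    congr 1
    rcases Nat.mod_two_eq_zero_or_one x with e | e <;> rw [e]
    · rw [pow_zero, zero_mul, ev_zero, mul_one, mul_inv_cancel]
    · rw [pow_one, one_mul, hb]

end Cfsg.Agent.ConwayType.Octad
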