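import Cfsg.Agent.Lib.ConwayType.Octad.Sub
import Cfsg.Agent.Lib.ConwayType.NotZ

/-!
The two classes on the subgroup of order `2^11` under its normalizer.
-/

set_option autoImplicit false
set_option maxRecDepth 20000

namespace Cfsg.Agent.ConwayType.Octad

open Subgroup Cfsg.Agent.LargeExtra Cfsg.Agent.OctadInv.Orbits
open Model (orb)

/-- The exchange of the first two pairs of coordinates. -/
def cV (v : V) : V :=
  R (mk 0 0 0 0 1 1 0 0) (R (mk 1 0 1 0 1 1 0 0) (R (mk 0 1 0 1 1 1 0 0) (R (mk 1 1 1 1 1 1 0 0) v)))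

theorem cV_ok : qf (mk 0 0 0 0 1 1 0 0) = 1 ∧ qf (mk 1 0 1 0 1 1 0 0) = 1 ∧ qf (mk 0 1 0 1 1 1 0 0) = 1 ∧
    qf (mk 1 1 1 1 1 1 0 0) = 1 := by decide +kernel

theorem cV_invol : ∀ v : V, cV (cV v) = v := by decide +kernel

theorem cV_values : cV e1 = ww 1 ∧ cV (ww 1) = e1 ∧ cV (ww 16) = ww 16 ∧ cV 0 = 0 := by decide +kernel

theorem cV_U : ∀ i : Fin 64, InP i → ∀ t : ZMod 2,
    ∃ i' : Fin 64, InP i' ∧ ∃ t' : ZMod 2, cV (ww i + sm t e1) = ww i' + sm t' e1 := by decide +kernel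

theorem cV_root4 : (∀ i, pw (cV (T (ww 4) (cV (ww i)))) = ww (wf 4 i)) ∧
    pw (cV (T (ww 4) (cV f1))) = ww 0 := by decide +kernel

theorem cV_root16 : (∀ i, pw (cV (T (ww 16) (cV (ww i)))) = ww (wf 2 i)) ∧
    pw (cV (T (ww 16) (cV f1))) = ww 0 := by decide +kernel

variable {G : Type*} [Group G]

/-- Conjugation inside a subgroup. -/
def Rel (N : Subgroup G) (x y : G) : Prop := ∃ m ∈ N, m * x * m⁻¹ = y

theorem Rel.symm {N : Subgroup G} {x y : G} (h : Rel N x y) : Rel N y x := by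
  obtain ⟨m, hm, rfl⟩ := h
  exact ⟨m⁻¹, N.inv_mem hm, by group⟩

theorem Rel.trans {N : Subgroup G} {x y w : G} (h : Rel N x y) (h' : Rel N y w) : Rel N x w := by
  obtain ⟨m, hm, rfl⟩ := h
  obtain ⟨n, hn, rfl⟩ := h'
  exact ⟨n * m, N.mul_mem hn hm, by group⟩

theorem Rel.isConj {N : Subgroup G} {x y : G} (h : Rel N x y) : IsConj x y := by
  obtain ⟨m, -, e⟩ := h
  exact isConj_iff.2 ⟨m, e⟩

variable [Finite G] {Q Q' : Subgroup G} {z a : G} {S : St Q Q' z a} {d : Gen S}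

namespace Oct

variable (o : Oct d)

theorem orb_rel (i : Fin 6) {x : ℕ} (hx : (orb i.1).testBit x = true) :
    Rel (normalizer (o.A : Set G)) (ev o.L (Data.reps.getD i.1 0)) (ev o.L x) := by
  rw [← Model.grow_orb i] at hx
  refine Model.grow_spec (P := fun x => Rel (normalizer (o.A : Set G)) (ev o.L (Data.reps.getD i.1 0)) (ev o.L x))
    (fun e he y hy _ => ?_) (fun y hy => ?_) x hx
  · have hg := Model.tree_gens.1 i e he
    exact hy.trans ⟨_, o.gen_mem ⟨e / 2048, by omega⟩, o.gen_conj ⟨e / 2048, by omega⟩ y⟩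
  · rw [Nat.one_shiftLeft, Nat.testBit_two_pow, decide_eq_true_eq] at hy
    exact hy ▸ ⟨1, one_mem _, by group⟩

theorem r0_not_core : ¬ S.Core (o.r 0) := by
  intro h
  have h1 := d.lm_core (o.hR 0).1 h
  have h2 := (o.hR 0).2 8
  rw [h1, S.bar_q Q.one_mem (inW_ww 8)] at h2
  exact absurd (ww_inj h2) (by decide +kernel)

theorem reps_ne : ∀ i : Fin 6, ev o.L (Data.reps.getD i.1 0) ≠ 1 := by
  have hk : ∀ i, S.Core (o.ke i) ∧ S.kap d.s (o.ke i) = ww (eI i) ∧ S.par (o.ke i) = 0 :=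
    fun i => d.rep_core (o.ke_rep i)
  have hne : ∀ i, o.ke i ≠ 1 := fun i e => by
    have h1 := (o.ke_rep i).2
    rw [e, S.F.vec_one, ← ww_zero] at h1
    revert h1
    fin_cases i <;> decide +kernel
  have hrne : ∀ {y : G}, S.Core y → o.r 0 * y ≠ 1 := fun {y} hy e =>
    o.r0_not_core (by rw [eq_inv_of_mul_eq_one_left e]; exact S.core_inv hy)
  have h80 : S.Core (o.ke 1 * (d.s * o.ke 0 * d.s)) := S.core_mul (hk 1).1 (d.core_s (hk 0).1)
  intro i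
  fin_cases i
  · simpa [Data.reps, L, ev] using S.h.ne_one
  · simpa [Data.reps, L, ev] using hne 0
  · simpa [Data.reps, L, ev] using hrne (hk 0).1
  · have : S.kap d.s (o.ke 1 * (d.s * o.ke 0 * d.s)) ≠ 0 := by
      rw [S.kap_mul d.hs (hk 1).1 (d.core_s (hk 0).1).1, d.kap_s, (hk 1).2.1, (hk 0).2.2, add_zero, ← ww_zero]
      intro e; exact absurd (ww_inj e) (by decide +kernel)
    simp [Data.reps, L, ev]
    intro e
    rw [e, S.kap_q d.hs Q.one_mem (by rw [S.F.vec_one]; rfl), S.F.vec_one, pw_zero] at this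
    exact this rfl
  · simpa [Data.reps, L, ev] using fun e => o.r0_not_core (by rw [e]; exact S.core_q Q.one_mem (by rw [S.F.vec_one]; rfl))
  · simpa [Data.reps, L, ev, mul_assoc] using hrne h80

theorem ev_ne {x : ℕ} (hx : x < 2048) (h0 : x ≠ 0) : ev o.L x ≠ 1 := by
  intro e
  obtain ⟨i, hi⟩ := (Model.orb_cover ⟨x, hx⟩).resolve_left h0
  obtain ⟨m, -, hm⟩ := o.orb_rel i hi
  rw [e, conj_eq_one_iff] at hm
  exact o.reps_ne i hm

theorem ev_inj {x y : ℕ} (hx : x < 2048) (hy : y < 2048) (e : ev o.L x = ev o.L y) : x = y := by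
  by_contra hne
  refine o.ev_ne (Nat.xor_lt_two_pow (n := 11) hx hy) (fun h => hne (Nat.xor_eq_zero_iff.1 h)) ?_
  rw [ev_xor o.isElem, e, ev_self o.isElem]

theorem card_A : Nat.card o.A = 2 ^ 11 := by
  rw [← Nat.card_congr (Equiv.ofBijective (fun x : Fin 2048 => (⟨ev o.L x.1, x.1, x.2, rfl⟩ : o.A))
    ⟨fun x y e => Fin.ext (o.ev_inj x.2 y.2 (congrArg Subtype.val e)), fun ⟨_, n, hn, e⟩ =>
      ⟨⟨n, hn⟩, Subtype.ext e.symm⟩⟩), Nat.card_fin]
  norm_num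

/-- An element exchanging `e1` and `h1` in the normalizer. -/
theorem exists_c : ∃ c, c * z = z * c ∧ c ∈ normalizer (o.A : Set G) ∧ (∀ v, act (S.act' c) v = cV v) ∧
    ∀ v, act (S.act' c⁻¹) v = cV v := by
  obtain ⟨h1, h2, h3, h4⟩ := cV_ok
  obtain ⟨⟨c, hc⟩, hcA⟩ := S.F.lift _ (Subgroup.mul_mem _ (pair_mem h1 h2) (pair_mem h3 h4))
  have hcz := mem_centralizer_singleton_iff.1 hc
  have hact : ∀ v, act (S.act' c) v = cV v := fun v => by
    rw [S.act'_def hcz, hcA, act_mul, act_mul, act_mul, act_rfl' h4, act_rfl' h3, act_rfl' h2, act_rfl' h1]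
    rfl
  have hinv : ∀ v, act (S.act' c⁻¹) v = cV v := fun v => by
    conv_lhs => rw [← cV_invol v, ← hact (cV v), ← act_mul, S.act'_inv hcz, inv_mul_cancel, act_one]
  refine ⟨c, hcz, o.mem_normalizer_of_U hcz fun k hk ⟨i, hi, t, e⟩ => ?_, hact, hinv⟩
  obtain ⟨i', hi', t', e'⟩ := cV_U i hi t
  refine ⟨i', hi', t', ?_⟩
  have h := S.vec_conj (inv_z hcz) hk
  rw [inv_inv, hinv, e, e'] at h
  exact h

theorem ev_bits : ev o.L 512 = z ∧ ev o.L 1024 = a ∧ ev o.L 8 = o.ke 0 ∧ ev o.L 520 = z * o.ke 0 ∧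
    ev o.L 32 = o.ke 2 ∧ ev o.L 136 = o.ke 0 * (d.s * o.ke 1 * d.s) ∧
    ev o.L 160 = o.ke 2 * (d.s * o.ke 1 * d.s) := by
  refine ⟨?_, ?_, ?_, ?_, ?_, ?_, ?_⟩ <;> simp [L, ev, o.z_right, mul_assoc]

/-- The image of a member of the second copy is a root element times the first copy. -/
theorem image_cos {c : G} (hcz : c * z = z * c) (hN : c ∈ normalizer (o.A : Set G))
    (hact : ∀ v, act (S.act' c) v = cV v) (hinv : ∀ v, act (S.act' c⁻¹) v = cV v) {j : Fin 3} {b : ℕ}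
    (hb : b < 8) (h1 : ∀ i, pw (cV (T (ww (eI j)) (cV (ww i)))) = ww (wf b i))
    (h2 : pw (cV (T (ww (eI j)) (cV f1))) = ww 0) :
    ∃ n ∈ Model.cos b, c * (d.s * o.ke j * d.s) * c⁻¹ = ev o.L n := by
  obtain ⟨n, hn, hx⟩ := (mem_normalizer_iff.1 hN _).1 (o.ske_mem j)
  refine ⟨n, ?_, hx⟩
  obtain ⟨hm, hmz, hmp⟩ := d.hs.conj (o.ke j) (o.ke_rep j).1 (d.rep_y1 (o.ke_rep j))
  rw [d.si] at hm hmz hmp
  rw [(o.ke_rep j).2, pw_eq (inW_ww _)] at hmp
  have hT : ∀ v, act (S.act' (ev o.L n)) v = cV (T (ww (eI j)) (cV v)) := fun v => by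
    rw [← hx, S.act'_mul (mul_z hcz hmz) (inv_z hcz), S.act'_mul hcz hmz, act_mul, act_mul, hact, hinv,
      (S.inRad hm hmz).act_eq, show wof (S.act' (d.s * o.ke j * d.s)) = ww (eI j) from hmp]
  obtain ⟨-, hbar, hpar⟩ := o.ev_par n
  have hw : ∀ i, ww (wf (n % 8) i) = ww (wf b i) := fun i => by rw [← hbar, St.bar, hT, h1]
  have hp : ww (pI (n / 8 / 8 % 8)) = ww (pI (0 : Fin 8).1) := by
    rw [← hpar, St.par, wof, hT, h2]; rfl
  have e1 := word_facts.2.2.1 ⟨n % 8, Nat.mod_lt _ (by norm_num)⟩ ⟨b, hb⟩ fun i => ww_inj (hw _)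
  have e2 := word_facts.2.1 ⟨n / 8 / 8 % 8, Nat.mod_lt _ (by norm_num)⟩ 0 (ww_inj hp)
  rw [Fin.ext_iff] at e1 e2
  simp only [Fin.val_zero] at e1 e2
  refine List.mem_filter.2 ⟨List.mem_range.2 hn, ?_⟩
  have e3 : n / 64 % 8 = 0 := by rw [← e2, Nat.div_div_eq_div_mul]
  simp [e1, e3]

variable (hQ : 32 ≤ Nat.card ↥Q)
include hQ

theorem not_z {i j : Fin 64} {n : ℕ} {y : G} (hy : y = ev o.L n) (hc : S.Core y) (hk : S.kap d.s y = ww i)
    (hp : S.par y = ww j) (hij : i ≠ 0 ∧ j ≠ 0 ∧ i ≠ j) : ¬ IsConj z y :=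
  S.not_conj d.hs hQ hc (by rw [hy]; exact ev_self o.isElem n)
    ⟨fun e => hij.1 (ww_inj (by rw [← hk, e, ww_zero])), fun e => hij.2.1 (ww_inj (by rw [← hp, e, ww_zero])),
      fun e => hij.2.2 (ww_inj (by rw [← hk, ← hp, e]))⟩

/-- The two classes. -/
theorem classes : (∀ i : Fin 6, i.1 < 3 → Rel (normalizer (o.A : Set G)) z (ev o.L (Data.reps.getD i.1 0))) ∧
    (∀ i : Fin 6, 3 ≤ i.1 → Rel (normalizer (o.A : Set G)) (ev o.L 80) (ev o.L (Data.reps.getD i.1 0))) ∧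
    ¬ IsConj z (ev o.L 80) := by
  set N := normalizer (o.A : Set G)
  obtain ⟨c, hcz, hN, hact, hinv⟩ := o.exists_c
  obtain ⟨b512, b1024, b8, b520, b32, b136, b160⟩ := o.ev_bits
  obtain ⟨n8, n520, n136, n160, n1024, n1536⟩ := Model.named
  have hvec : ∀ {k : G}, k ∈ Q → S.F.vec (c * k * c⁻¹) = cV (S.F.vec k) := fun hk => by
    rw [S.vec_conj hcz hk, hact]
  have hcQ : ∀ {k : G}, k ∈ Q → c * k * c⁻¹ ∈ Q := fun hk => S.h.conj_mem hcz hk
  have hconj : ∀ {x : G}, Rel N x (c * x * c⁻¹) := fun {x} => ⟨c, hN, rfl⟩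
  -- the images
  obtain ⟨u, hu⟩ : ∃ t : ZMod 2, c * o.ke 0 * c⁻¹ = ev o.L (1024 ||| 512 * t.val) := by
    obtain ⟨t, ht⟩ := S.eq_zp (t := 1) (hcQ (o.ke_rep 0).1) (by
      rw [hvec (o.ke_rep 0).1, (o.ke_rep 0).2, sm_one]; exact cV_values.2.1)
    refine ⟨t, ht.trans ?_⟩
    rcases z2 t with rfl | rfl
    · simp [zp_zero, zp_one, b1024]
    · rw [show (1024 ||| 512 * (1 : ZMod 2).val) = 512 ^^^ 1024 from rfl, ev_xor o.isElem, b512, b1024,
        zp_one, zp_one]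
  obtain ⟨w, hw⟩ : ∃ t : ZMod 2, c * o.ke 2 * c⁻¹ = ev o.L (32 ||| 512 * t.val) := by
    obtain ⟨t, ht⟩ := d.rep_eq (o.ke_rep 2) (k := o.ke 2) (l := c * o.ke 2 * c⁻¹) ⟨hcQ (o.ke_rep 2).1, by
      rw [hvec (o.ke_rep 2).1, (o.ke_rep 2).2]; exact cV_values.2.2.1⟩
    refine ⟨t, ht.trans ?_⟩
    rcases z2 t with rfl | rfl
    · simp [zp_zero, b32]
    · rw [show (32 ||| 512 * (1 : ZMod 2).val) = 512 ^^^ 32 from rfl, ev_xor o.isElem, b512, b32, zp_one]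
  obtain ⟨x3, hx3, e3⟩ := o.image_cos hcz hN hact hinv (j := 1) (by norm_num) cV_root4.1 cV_root4.2
  obtain ⟨x2, hx2, e2⟩ := o.image_cos hcz hN hact hinv (j := 2) (by norm_num) cV_root16.1 cV_root16.2
  have hmem : ∀ t : ZMod 2, 512 * t.val ∈ ([0, 512] : List ℕ) := by decide
  -- the conjugates of `z`
  have hza : IsConj z a := S.conj_z'.symm
  have zQ : ∀ i, IsConj z (d.s * o.ke i * d.s) := fun i => by
    have hne : o.ke i ≠ 1 := fun e => by
      have h1 := (o.ke_rep i).2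
      rw [e, S.F.vec_one, ← ww_zero] at h1
      revert h1
      fin_cases i <;> decide +kernel
    refine (S.conj_of_mem (o.ke_rep i).1 (o.ke_sq i) hne).symm.trans ?_
    exact isConj_iff.2 ⟨d.s, by rw [d.si]⟩
  have z3 : IsConj z (ev o.L x3) := e3 ▸ (zQ 1).trans (hconj).isConj
  have z2' : IsConj z (ev o.L x2) := e2 ▸ (zQ 2).trans (hconj).isConj
  have z32 : IsConj z (ev o.L (x3 ^^^ x2)) := by
    rw [ev_xor o.isElem, ← e3, ← e2, conj_mul, ← d.s_conj]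
    refine IsConj.trans ?_ (hconj).isConj
    have hp := d.rep_mul (o.ke_rep 1) (o.ke_rep 2)
    refine ((S.conj_of_mem hp.1 ?_ fun e => ?_).symm).trans (isConj_iff.2 ⟨d.s, by rw [d.si]⟩)
    · rw [d.rep_sq hp, show qf (ww (eI 1 ^^^ eI 2)) = 0 by decide +kernel, zp_zero]
    · have h1 := hp.2
      rw [e, S.F.vec_one, ← ww_zero] at h1
      exact absurd (ww_inj h1) (by decide +kernel)
  -- the others
  have hk : ∀ i, S.Core (o.ke i) ∧ S.kap d.s (o.ke i) = ww (eI i) ∧ S.par (o.ke i) = ww 0 :=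
    fun i => ⟨(d.rep_core (o.ke_rep i)).1, (d.rep_core (o.ke_rep i)).2.1,
      by rw [(d.rep_core (o.ke_rep i)).2.2, ww_zero]⟩
  have hpair : ∀ i j, S.Core (o.ke i * (d.s * o.ke j * d.s)) ∧
      S.kap d.s (o.ke i * (d.s * o.ke j * d.s)) = ww (eI i) ∧ S.par (o.ke i * (d.s * o.ke j * d.s)) = ww (eI j) :=
    fun i j => by
      have hs := d.core_s (hk j).1
      exact ⟨S.core_mul (hk i).1 hs, by
          rw [S.kap_mul d.hs (hk i).1 hs.1, d.kap_s, (hk i).2.1, (hk j).2.2, ww_zero, add_zero], by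
          rw [S.par_core_mul (hk i).1 hs.1, d.par_s, (hk j).2.1, (hk i).2.2, ww_zero, zero_add]⟩
  have h136 : ¬ IsConj z (ev o.L 136) := by
    refine o.not_z hQ rfl (b136 ▸ (hpair 0 1).1) (b136 ▸ (hpair 0 1).2.1) (b136 ▸ (hpair 0 1).2.2) ?_
    decide +kernel
  have h160 : ¬ IsConj z (ev o.L 160) := by
    refine o.not_z hQ rfl (b160 ▸ (hpair 2 1).1) (b160 ▸ (hpair 2 1).2.1) (b160 ▸ (hpair 2 1).2.2) ?_
    decide +kernel
  have r136 : Rel N (ev o.L 136) (ev o.L (x3 ^^^ (1024 ||| 512 * u.val))) :=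
    ⟨c, hN, by rw [ev_xor o.isElem, ← e3, ← hu, b136, o.ke_ske, ← conj_mul]⟩
  have r160 : Rel N (ev o.L 160) (ev o.L (x3 ^^^ (32 ||| 512 * w.val))) :=
    ⟨c, hN, by rw [ev_xor o.isElem, ← e3, ← hw, b160, o.ke_ske, ← conj_mul]⟩
  have y3u : ¬ IsConj z (ev o.L (x3 ^^^ (1024 ||| 512 * u.val))) := fun h => h136 (h.trans r136.isConj.symm)
  have y3w : ¬ IsConj z (ev o.L (x3 ^^^ (32 ||| 512 * w.val))) := fun h => h160 (h.trans r160.isConj.symm)
  -- the selection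
  have same : ∀ (i : Fin 6) {x y : ℕ}, (orb i.1).testBit x = true → (orb i.1).testBit y = true →
      Rel N (ev o.L x) (ev o.L y) := fun i {x y} hx hy => (o.orb_rel i hx).symm.trans (o.orb_rel i hy)
  have y2u : ¬ IsConj z (ev o.L (x2 ^^^ (1024 ||| 512 * u.val))) := by
    have hb : ev o.L (8 ^^^ 256) = o.ke 0 * (d.s * o.ke 2 * d.s) := by simp [L, ev]
    have h264 : ¬ IsConj z (ev o.L (8 ^^^ 256)) := by
      refine o.not_z hQ rfl (hb ▸ (hpair 0 2).1) (hb ▸ (hpair 0 2).2.1) (hb ▸ (hpair 0 2).2.2) ?_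
      decide +kernel
    refine fun h => h264 (h.trans (IsConj.symm ?_))
    exact isConj_iff.2 ⟨c, by rw [ev_xor o.isElem x2, ← e2, ← hu, hb, o.ke_ske, ← conj_mul]⟩
  obtain ⟨h2x, h5u, h4w⟩ : (orb 2).testBit x3 = true ∧
      (orb 5).testBit (x3 ^^^ (1024 ||| 512 * u.val)) = true ∧
      (orb 4).testBit (x3 ^^^ (32 ||| 512 * w.val)) = true := by
    rcases Model.sel3 x3 hx3 _ (hmem u) _ (hmem w) with h | ⟨h5, h2u, h4⟩ | ⟨h4, h4u⟩
    · exact h
    · exfalso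
      rcases Model.sel2 x2 hx2 _ (hmem u) with ⟨h2, -⟩ | ⟨h5', -⟩ | ⟨h4', h4u'⟩
      · exact y3u (z2'.trans (same 2 h2 h2u).isConj)
      · rcases Model.sel_sum x3 (List.mem_filter.2 ⟨hx3, h5⟩) x2 (List.mem_filter.2 ⟨hx2, h5'⟩) with h | h
        · exact y3u (z32.trans (same 2 h h2u).isConj)
        · exact y3w (z32.trans (same 4 h h4).isConj)
      · exact y2u (z2'.trans (same 4 h4' h4u').isConj)
    · exact absurd (z3.trans (same 4 h4 h4u).isConj) y3u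
  -- the fusion
  have za : Rel N z a := ⟨d.s, o.gen_mem 0, d.hs.hz⟩
  have r0 : Rel N z (ev o.L 512) := by rw [b512]; exact ⟨1, one_mem _, by group⟩
  obtain ⟨t, ht⟩ : ∃ t : ZMod 2, c * a * c⁻¹ = ev o.L (8 ||| 512 * t.val) := by
    obtain ⟨t, ht⟩ := d.rep_eq (o.ke_rep 0) (k := o.ke 0) (l := c * a * c⁻¹) ⟨hcQ S.mem_a, by
      rw [hvec S.mem_a, S.F.vec_a]; exact cV_values.1⟩
    refine ⟨t, ht.trans ?_⟩
    rcases z2 t with rfl | rfl
    · simp [zp_zero, b8]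
    · rw [show (8 ||| 512 * (1 : ZMod 2).val) = 512 ^^^ 8 from rfl, ev_xor o.isElem, b512, b8, zp_one]
  have r1 : Rel N z (ev o.L 8) := by
    have h1 : (orb 1).testBit (8 ||| 512 * t.val) = true := by
      rcases z2 t with rfl | rfl
      · exact n8
      · exact n520
    refine za.trans ((hconj).trans ?_)
    rw [ht]
    exact same 1 h1 n8
  have r80 : ∀ {x : ℕ}, (orb 3).testBit x = true → Rel N (ev o.L 80) (ev o.L x) := fun hx => o.orb_rel 3 hx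
  have r2 : Rel N z (ev o.L x3) := by
    have hs1 : Rel N z (d.s * o.ke 1 * d.s) := by
      have h1 : Rel N z (ev o.L 16) :=
        r1.trans (same 1 n8 (by decide +kernel : (orb 1).testBit 16 = true))
      exact h1.trans ⟨d.s, o.gen_mem 0, by rw [show ev o.L 16 = o.ke 1 by simp [L, ev], d.si]⟩
    exact e3 ▸ hs1.trans hconj
  refine ⟨fun i hi => ?_, fun i hi => ?_, fun h => h136 (h.trans (r80 n136).isConj)⟩
  · rcases (by omega : i.1 = 0 ∨ i.1 = 1 ∨ i.1 = 2) with e | e | e <;> rw [e]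
    · exact r0
    · exact r1
    · exact r2.trans ((o.orb_rel 2 h2x).symm)
  · have := i.2
    rcases (by omega : i.1 = 3 ∨ i.1 = 4 ∨ i.1 = 5) with e | e | e <;> rw [e]
    · exact ⟨1, one_mem _, by simp [Data.reps]⟩
    · exact (r80 n160).trans (r160.trans (o.orb_rel 4 h4w).symm)
    · exact (r80 n136).trans (r136.trans (o.orb_rel 5 h5u).symm)

end Oct

end Cfsg.Agent.ConwayType.Octad
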