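import Cfsg.Agent.Lib.ConwayType.Octad.Levi

/-!
After a change of coordinates the root element of the line of `h1, h2` fixes the preimage of the plane
`⟨h1, h2, s4⟩`.
-/

set_option autoImplicit false
set_option maxRecDepth 20000

namespace Cfsg.Agent.ConwayType.Octad

open Subgroup Cfsg.Agent.LargeExtra Cfsg.Agent.OctadInv.Orbits

variable {G : Type*} [Group G]

theorem R_p1_twice (v : V) : R p1 (R p1 v) = v := by
  have h := swap_facts.1
  rw [← act_rfl' h, ← act_rfl' h, ← act_mul, rfl'_sq, act_one]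

variable [Finite G] {Q Q' : Subgroup G} {z a : G}

/-- The frame followed by the exchange of the last two coordinates. -/
noncomputable def frameSwap (F : Frame Q z a) : Frame Q z a where
  vec x := R p1 (F.vec x)
  π := (MulAut.conj (rfl' p1)).toMonoidHom.comp F.π
  vec_mul hx hy := by
    show R p1 _ = R p1 _ + R p1 _
    rw [F.vec_mul hx hy, ← act_rfl' swap_facts.1, act_add, act_rfl' swap_facts.1, act_rfl' swap_facts.1]
  vec_cases hx h0 := F.vec_cases hx (by
    rw [← R_p1_twice (F.vec _), h0]; exact swap_facts.2.2.2.2.2)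
  vec_z := by
    show R p1 _ = _
    rw [F.vec_z]; exact swap_facts.2.2.2.2.2
  vec_one := by
    show R p1 _ = _
    rw [F.vec_one]; exact swap_facts.2.2.2.2.2
  sq hx := by
    show _ = zp z (qf (R p1 _))
    rw [← act_rfl' swap_facts.1, act_qf]; exact F.sq hx
  comm hx hy := by
    show _ = zp z (bf (R p1 _) (R p1 _)) * _
    rw [← act_rfl' swap_facts.1, ← act_rfl' swap_facts.1, act_bf]; exact F.comm hx hy
  surj v := by
    obtain ⟨x, hx, hv⟩ := F.surj (R p1 v)
    exact ⟨x, hx, by show R p1 _ = v; rw [hv, R_p1_twice]⟩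
  vec_conj c x hx := by
    show R p1 _ = act (rfl' p1 * F.π c * (rfl' p1)⁻¹) (R p1 _)
    rw [F.vec_conj c hx, inv_eq_of_mul_eq_one_right (rfl'_sq p1), act_mul, act_mul,
      ← act_rfl' swap_facts.1 (F.vec x), ← act_mul (rfl' p1) (rfl' p1), rfl'_sq, act_one,
      act_rfl' swap_facts.1]
  ker c := by
    show rfl' p1 * F.π c * (rfl' p1)⁻¹ = 1 ↔ _
    rw [conj_eq_one_iff, F.ker]
  mem_omega c := by
    haveI : (Cfsg.Omega (ZMod 2) ⇑F8).Normal := Subgroup.normal_of_index_eq_two omega_index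
    exact this.conj_mem _ (F.mem_omega c) _
  lift A hA := by
    haveI : (Cfsg.Omega (ZMod 2) ⇑F8).Normal := Subgroup.normal_of_index_eq_two omega_index
    obtain ⟨c, hc⟩ := F.lift _ (this.conj_mem _ hA (rfl' p1)⁻¹)
    refine ⟨c, ?_⟩
    show rfl' p1 * F.π c * (rfl' p1)⁻¹ = A
    rw [hc]; group
  vec_a := by
    show R p1 _ = _
    rw [F.vec_a]; exact swap_facts.2.1

/-- The data with swapped coordinates. -/
noncomputable def stSwap (S : St Q Q' z a) : St Q Q' z a := ⟨S.P, frameSwap S.F⟩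

theorem par_swap (S : St Q Q' z a) {g : G} (hg : g * z = z * g) : (stSwap S).par g = R p1 (S.par g) := by
  unfold St.par wof
  rw [(stSwap S).act'_def hg, S.act'_def hg]
  show pw (act (rfl' p1 * S.F.π _ * (rfl' p1)⁻¹) f1) = _
  rw [inv_eq_of_mul_eq_one_right (rfl'_sq p1), act_mul, act_mul, act_rfl' swap_facts.1,
    act_rfl' swap_facts.1, swap_facts.2.2.1, pw_R_p1]

theorem bar_frameSwap (S : St Q Q' z a) {g : G} (hg : g * z = z * g) (w : V) :
    (stSwap S).bar g w = R p1 (S.bar g (R p1 w)) := by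
  unfold St.bar
  rw [(stSwap S).act'_def hg, S.act'_def hg]
  show pw (act (rfl' p1 * S.F.π _ * (rfl' p1)⁻¹) w) = _
  rw [inv_eq_of_mul_eq_one_right (rfl'_sq p1), act_mul, act_mul, act_rfl' swap_facts.1,
    act_rfl' swap_facts.1, pw_R_p1]

/-- The generators in the swapped coordinates. -/
noncomputable def genSwap {S : St Q Q' z a} (d : Gen S) : Gen (stSwap S) where
  q := d.q
  s := d.s
  hq := d.hq
  hqv := by
    show R p1 _ = _
    rw [d.hqv]; exact swap_facts.2.2.1
  hs := ⟨d.hs.hz, d.hs.ha,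
    fun k hk hk0 => by
      obtain ⟨h1, h2, h3⟩ := d.hs.conj k hk (by rwa [show y1 ((stSwap S).F.vec k) = y1 (S.F.vec k) from
        y1_R_p1 _] at hk0)
      exact ⟨h1, h2, by
        rw [par_swap S h2, h3]
        exact (pw_R_p1 _).symm⟩,
    fun k hk hk0 => by
      obtain ⟨h1, h2, h3⟩ := d.hs.conj_inv k hk (by rwa [show y1 ((stSwap S).F.vec k) = y1 (S.F.vec k) from
        y1_R_p1 _] at hk0)
      exact ⟨h1, h2, by
        rw [par_swap S h2, h3]
        exact (pw_R_p1 _).symm⟩⟩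
  hss := d.hss

theorem exists_good (S : St Q Q' z a) : ∃ S' : St Q Q' z a, ∃ d : Gen S', d.Good := by
  obtain ⟨d⟩ := exists_gen S
  by_cases hg : d.Good
  · exact ⟨S, d, hg⟩
  refine ⟨stSwap S, genSwap d, fun {r k} hr hk => ?_⟩
  have hfix : ∀ i, ww (A0f i) = A0 (ww i) := by decide +kernel
  have hr' : d.Hb A0f r := by
    refine ⟨⟨hr.1.1, hr.1.2.1, hr.1.2.2⟩, fun i => ?_⟩
    have hRp : ∀ i, R p1 (ww i) = ww (enc (R p1 (ww i))) := by decide +kernel
    have h := hr.2 (enc (R p1 (ww i)))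
    rw [bar_frameSwap S hr.1.1.1, ← hRp, R_p1_twice, hfix, ← hRp, ← swap_facts.2.2.2.2.1] at h
    rw [hfix, ← R_p1_twice (S.bar r (ww i)), h, R_p1_twice]
  exact d.flip_other hg hr' ⟨hk.1, by
    have h := hk.2
    rw [← R_p1_twice (S.F.vec k), show R p1 (S.F.vec k) = ww 16 from h]
    exact swap_facts.2.2.2.1⟩

end Cfsg.Agent.ConwayType.Octad
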