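import Cfsg.Agent.Lib.ConwayType.Classes

/-!
A complement to the core in the centralizer of `z` and `a`: the elements commuting with an involution
`q` over `f1` and with its image under an exchanging involution `s`.
-/

set_option autoImplicit false
set_option maxRecDepth 20000

namespace Cfsg.Agent.ConwayType.Octad

open Subgroup Cfsg.Agent.LargeExtra Cfsg.Agent.OctadInv.Orbits

/-! ### Index maps on the complement -/

/-- A pair of reflections on the indices. -/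
def Rp (p : Fin 64 × Fin 64) (i : Fin 64) : Fin 64 := enc (R (ww p.1) (R (ww p.2) (ww i)))

/-- A product of pairs of reflections on the indices. -/
def pf : List (Fin 64 × Fin 64) → Fin 64 → Fin 64
  | [], i => i
  | p :: l, i => Rp p (pf l i)

/-- All reflecting vectors are non-singular. -/
abbrev Ok (l : List (Fin 64 × Fin 64)) : Prop := ∀ p ∈ l, qf (ww p.1) = 1 ∧ qf (ww p.2) = 1

theorem ww_Rp (p : Fin 64 × Fin 64) (i : Fin 64) : ww (Rp p i) = R (ww p.1) (R (ww p.2) (ww i)) :=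
  ww_enc (inW_R (inW_ww _) (inW_R (inW_ww _) (inW_ww _)))

theorem ww_xor : ∀ i j : Fin 64, ww i + ww j = ww (i ^^^ j) := by decide +kernel

theorem ww_zero : ww 0 = 0 := by decide +kernel

theorem ww_inj {i j : Fin 64} (h : ww i = ww j) : i = j := by
  revert i j; decide +kernel

/-- Nothing but zero is fixed by all pairs of reflections. -/
theorem no_fixed : ∀ i : Fin 64, i ≠ 0 → ∃ r, qf (ww r) = 1 ∧ ∃ s, qf (ww s) = 1 ∧ Rp (r, s) i ≠ i := by
  decide +kernel

/-- The root element of the line of `h1` and `h2` on the indices. -/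
def A0f (i : Fin 64) : Fin 64 := enc (A0 (ww i))

theorem A0f_ok : pf [(48, 49), (52, 53)] = A0f := by
  funext i; revert i; decide +kernel

theorem flip_data : Ok [(48, 49)] ∧ pf [(48, 49)] 48 = 48 ∧ pf [(48, 49)] 19 = 35 ∧
    (∀ i, pf [(48, 49)] (pf [(48, 49)] i) = i) ∧ bf (ww 19) (ww 35) = 1 ∧
    (19 : Fin 64) ^^^ 35 = 48 ∧ Ok [(12, 13), (48, 52)] ∧ pf [(12, 13), (48, 52)] 48 = 48 ∧
    ∀ i, pf [(48, 49)] (pf [(12, 13), (48, 52)] (pf [(12, 13), (48, 52)] i)) = A0f i := by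
  decide +kernel

/-! ### The swap of the last pair of coordinates -/

theorem swap_facts : qf p1 = 1 ∧ R p1 e1 = e1 ∧ R p1 f1 = f1 ∧ R p1 (ww 16) = ww 32 ∧
    (∀ i, R p1 (A0 (ww i)) = A0 (R p1 (ww i))) ∧ R p1 0 = 0 := by decide +kernel

theorem pw_R_p1 : ∀ v : V, pw (R p1 v) = R p1 (pw v) := by decide +kernel

theorem y1_R_p1 : ∀ v : V, y1 (R p1 v) = y1 v := by decide +kernel

variable {G : Type*} [Group G]

/-- An involution of `Q` over `f1` and an exchanging involution. -/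
structure Gen {Q Q' : Subgroup G} {z a : G} (S : St Q Q' z a) where
  q : G
  s : G
  hq : q ∈ Q
  hqv : S.F.vec q = f1
  hs : S.Swap s
  hss : s * s = 1

variable {Q Q' : Subgroup G} {z a : G}

section
variable [Finite G] (S : St Q Q' z a)

theorem exists_gen : Nonempty (Gen S) := by
  obtain ⟨q, hq, hqv⟩ := S.exists_q
  obtain ⟨u, hu⟩ := S.exists_swap
  have hqq : q * q = 1 := by rw [S.F.sq hq, hqv, qf_f1, zp_zero]
  have hqi : q⁻¹ = q := inv_eq_of_mul_eq_one_right hqq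
  have hqa : q * a * q⁻¹ = z * a := (S.P.p.conj_a hq).resolve_left fun e => by
    have := (S.comm_a_iff hq).1 (mul_inv_eq_iff_eq_mul.1 e)
    rw [hqv, y1_f1] at this
    exact one_ne_zero this
  set n := u * q * u⁻¹ with hn0
  have hn : n ∈ Q' := by
    rw [S.P.p.link u hu.hz, hn0]
    simpa [mul_assoc] using hq
  have hnn : n * n = 1 := by rw [hn0, show u * q * u⁻¹ * (u * q * u⁻¹) = u * (q * q) * u⁻¹ by group, hqq]; group
  have hnz : n * z * n⁻¹ = z * a := by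
    calc n * z * n⁻¹ = u * (q * (u⁻¹ * z * u) * q⁻¹) * u⁻¹ := by rw [hn0]; group
      _ = u * (z * a) * u⁻¹ := by rw [S.swap_inv_z hu, hqa]
      _ = (u * z * u⁻¹) * (u * a * u⁻¹) := by group
      _ = _ := by rw [hu.hz, hu.ha, S.P.p.az]
  have hss : q * n * q * (q * n * q) = 1 := by
    calc q * n * q * (q * n * q) = q * (n * (q * q) * n) * q := by group
      _ = 1 := by rw [hqq, mul_one, hnn, mul_one, hqq]
  obtain ⟨hz', ha', -⟩ := S.swap_conj hq hqv hn hnz Q.one_mem (by rw [S.F.vec_one]; rfl)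
  exact ⟨⟨q, q * n * q, hq, hqv, ⟨hz', ha', fun k hk hk0 => (S.swap_conj hq hqv hn hnz hk hk0).2.2,
    fun k hk hk0 => by
      have h := (S.swap_conj hq hqv hn hnz hk hk0).2.2
      rw [inv_eq_of_mul_eq_one_right hss] at h ⊢
      exact h⟩, hss⟩⟩

end

namespace Gen

variable {S : St Q Q' z a} (d : Gen S)

/-- The element of order three. -/
def th : G := d.s * d.q

/-- The complement. -/
def Lm (g : G) : Prop :=
  S.Cen g ∧ g * d.q = d.q * g ∧ d.s * g * d.s * d.q = d.q * (d.s * g * d.s)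

/-- Elements of the complement with given action. -/
def Hb (f : Fin 64 → Fin 64) (g : G) : Prop := d.Lm g ∧ ∀ i, S.bar g (ww i) = ww (f i)

/-- Representatives. -/
def Rep (_d : Gen S) (i : Fin 64) (k : G) : Prop := k ∈ Q ∧ S.F.vec k = ww i

include d

theorem qq : d.q * d.q = 1 := by rw [S.F.sq d.hq, d.hqv, qf_f1, zp_zero]

theorem qi : d.q⁻¹ = d.q := inv_eq_of_mul_eq_one_right d.qq

theorem si : d.s⁻¹ = d.s := inv_eq_of_mul_eq_one_right d.hss

theorem qz : d.q * z = z * d.q := S.qz d.hq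

theorem sz : d.s * z * d.s = a := by
  conv_lhs => enter [2]; rw [← d.si]
  exact d.hs.hz

theorem sa : d.s * a * d.s = z := by
  conv_lhs => enter [2]; rw [← d.si]
  exact d.hs.ha

theorem s_conj (x y : G) : d.s * (x * y) * d.s = d.s * x * d.s * (d.s * y * d.s) := by
  conv_rhs => rw [show d.s * x * d.s * (d.s * y * d.s) = d.s * x * (d.s * d.s) * y * d.s by group, d.hss]
  group

theorem q_conj (x y : G) : d.q * (x * y) * d.q = d.q * x * d.q * (d.q * y * d.q) := by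
  conv_rhs => rw [show d.q * x * d.q * (d.q * y * d.q) = d.q * x * (d.q * d.q) * y * d.q by group, d.qq]
  group

theorem s_inj {x : G} : d.s * (d.s * x * d.s) * d.s = x := by
  rw [show d.s * (d.s * x * d.s) * d.s = (d.s * d.s) * x * (d.s * d.s) by group, d.hss, one_mul, mul_one]

variable [Finite G]

theorem qa : d.q * a * d.q = z * a := by
  have h := (S.P.p.conj_a d.hq).resolve_left fun e => by
    have := (S.comm_a_iff d.hq).1 (mul_inv_eq_iff_eq_mul.1 e)
    rw [d.hqv, y1_f1] at this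
    exact one_ne_zero this
  rwa [d.qi] at h

theorem cen_s {g : G} (hg : S.Cen g) : S.Cen (d.s * g * d.s) := by
  have := S.cen_swap d.hs hg
  rwa [d.si] at this

theorem kap_eq (g : G) : S.kap d.s g = S.par (d.s * g * d.s) := by rw [St.kap, d.si]

theorem core_s {g : G} (hg : S.Core g) : S.Core (d.s * g * d.s) := by
  have := S.core_swap d.hs hg
  rwa [d.si] at this

theorem kap_s (g : G) : S.kap d.s (d.s * g * d.s) = S.par g := by rw [d.kap_eq, d.s_inj]

theorem par_s (g : G) : S.par (d.s * g * d.s) = S.kap d.s g := (d.kap_eq g).symm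

theorem core_qc {g : G} (hg : S.Core g) : S.Core (d.q * g * d.q) ∧
    S.kap d.s (d.q * g * d.q) = S.kap d.s g + S.par g ∧ S.par (d.q * g * d.q) = S.par g := by
  have := S.core_q_conj d.hs d.hq d.hqv hg
  rwa [d.qi] at this

theorem q_four (t t' : ZMod 2) : d.q * (zp z t * zp a t') * d.q = zp z (t + t') * zp a t' := by
  have hz : d.q * zp z t * d.q = zp z t := by rw [zp_comm d.qz, mul_assoc, d.qq, mul_one]
  rw [d.q_conj, hz]
  rcases z2 t' with rfl | rfl
  · rw [zp_zero, mul_one, d.qq, add_zero]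
  · rw [zp_one, d.qa, ← mul_assoc]
    nth_rewrite 1 [← zp_one z]
    rw [zp_add S.h.zz]
    simp [zp_one]

theorem s_four (t t' : ZMod 2) : d.s * (zp z t * zp a t') * d.s = zp z t' * zp a t := by
  have h1 : ∀ t, d.s * zp z t * d.s = zp a t := fun t => by
    rcases z2 t with rfl | rfl
    · rw [zp_zero, zp_zero, mul_one, d.hss]
    · rw [zp_one, zp_one, d.sz]
  have h2 : ∀ t, d.s * zp a t * d.s = zp z t := fun t => by
    rcases z2 t with rfl | rfl
    · rw [zp_zero, zp_zero, mul_one, d.hss]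
    · rw [zp_one, zp_one, d.sa]
  rw [d.s_conj, h1, h2]
  exact (((show Commute a z from S.P.p.az).pow_left _).pow_right _).eq

/-! ### The complement -/

theorem lm_one : d.Lm 1 :=
  ⟨S.cen_one, by rw [one_mul, mul_one], by rw [mul_one, d.hss, one_mul, mul_one]⟩

theorem lm_mul {g h : G} (hg : d.Lm g) (hh : d.Lm h) : d.Lm (g * h) :=
  ⟨S.cen_mul hg.1 hh.1, mul_z hg.2.1.symm.symm hh.2.1, by
    rw [d.s_conj]; exact mul_z hg.2.2 hh.2.2⟩

theorem lm_inv {g : G} (hg : d.Lm g) : d.Lm g⁻¹ := by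
  refine ⟨S.cen_inv hg.1, inv_z hg.2.1, ?_⟩
  have h := inv_z hg.2.2
  rw [mul_inv_rev, mul_inv_rev, d.si, ← mul_assoc] at h
  exact h

theorem lm_par {g : G} (hg : d.Lm g) : S.par g = 0 ∧ act (S.act' g) f1 = f1 := by
  have h : g * d.q * g⁻¹ = d.q := mul_inv_eq_iff_eq_mul.2 hg.2.1
  have hv := S.vec_conj hg.1.1 d.hq
  rw [h, d.hqv] at hv
  exact ⟨by rw [St.par, wof, ← hv, pw_f1], hv.symm⟩

theorem lm_s {g : G} (hg : d.Lm g) : d.Lm (d.s * g * d.s) :=
  ⟨d.cen_s hg.1, hg.2.2, by rw [d.s_inj]; exact hg.2.1⟩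

theorem lm_core {g : G} (hg : d.Lm g) (hc : S.Core g) : g = 1 := by
  have hp : S.par g = 0 := (d.lm_par hg).1
  have hk : S.kap d.s g = 0 := by rw [d.kap_eq]; exact (d.lm_par (d.lm_s hg)).1
  obtain ⟨t, t', rfl⟩ := S.core_zero d.hs hc hk hp
  have e1 : d.q * (zp z t * zp a t') * d.q = zp z t * zp a t' := by rw [← hg.2.1, mul_assoc, d.qq, mul_one]
  have e2 : d.q * (zp z t' * zp a t) * d.q = zp z t' * zp a t := by
    have h := hg.2.2
    rw [d.s_four] at h
    rw [← h, mul_assoc, d.qq, mul_one]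
  rw [d.q_four] at e1 e2
  have h1 := (S.four_inj e1).1
  have h2 := (S.four_inj e2).1
  rw [add_eq_left] at h1 h2
  rw [h1, h2, zp_zero, zp_zero, mul_one]

/-- The complement embeds. -/
theorem lm_ext {g h : G} (hg : d.Lm g) (hh : d.Lm h) (e : ∀ i, S.bar g (ww i) = S.bar h (ww i)) : g = h := by
  have hc : S.Core (h⁻¹ * g) := ⟨S.cen_mul (S.cen_inv hh.1) hg.1, fun w hw => by
    rw [← ww_enc hw, S.bar_mul (S.cen_inv hh.1) hg.1 (inW_ww _), e, S.bar_inv hh.1 (inW_ww _)]⟩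
  have := d.lm_core (d.lm_mul (d.lm_inv hh) hg) hc
  rwa [inv_mul_eq_one, eq_comm] at this

theorem lm_comm_s {g : G} (hg : d.Lm g) : d.s * g = g * d.s := by
  have h := d.lm_ext (d.lm_s hg) hg fun i => by
    have := S.bar_swap d.hs hg.1 (inW_ww i)
    rwa [d.si] at this
  calc d.s * g = d.s * g * (d.s * d.s) := by rw [d.hss, mul_one]
    _ = d.s * g * d.s * d.s := by group
    _ = _ := by rw [h]

theorem lm_comm_th {g : G} (hg : d.Lm g) : d.th * g = g * d.th := by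
  rw [th, mul_assoc, ← hg.2.1, ← mul_assoc, d.lm_comm_s hg, mul_assoc]

/-- An element with vanishing parameter commutes with `q` up to `z`. -/
theorem comm_q_of_par {c : G} (hc : S.Cen c) (hp : S.par c = 0) :
    ∃ t, d.q * c * d.q * c⁻¹ = zp z t := by
  set x := act (S.act' c) f1 with hx
  have hqx : qf x = 0 := by rw [hx, act_qf, qf_f1]
  have he : x = f1 + sm (x1 x) e1 := by
    conv_lhs => rw [hx, S.act_f1 hc, hp, add_zero, ← hx]
  have ht : x1 x = 0 := by
    rw [he, qf_add, qf_f1, bf_sm_right, bf_f1_e1] at hqx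
    rcases z2 (x1 x) with e | e
    · exact e
    · rw [e, sm_one] at hqx; exact absurd hqx (by decide)
  have hm : c * d.q * c⁻¹ ∈ Q := S.h.conj_mem hc.1 d.hq
  have hk : d.q * (c * d.q * c⁻¹) ∈ Q := Q.mul_mem d.hq hm
  have hv : S.F.vec (d.q * (c * d.q * c⁻¹)) = 0 := by
    rw [S.F.vec_mul d.hq hm, S.vec_conj hc.1 d.hq, d.hqv, ← hx, he, ht, sm_zero, add_zero, add_self_V]
  rw [show d.q * c * d.q * c⁻¹ = d.q * (c * d.q * c⁻¹) by group]
  rcases S.F.vec_cases hk hv with e | e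
  · exact ⟨0, by rw [e, zp_zero]⟩
  · exact ⟨1, by rw [e, zp_one]⟩

/-- Every element of the centralizer is in the core times the complement. -/
theorem exists_fix {c : G} (hc : S.Cen c) : ∃ y, S.Core y ∧ d.Lm (y * c) := by
  obtain ⟨y0, hy0, hk, hp⟩ := S.exists_pair d.hs (S.inW_par (d.s * c * d.s)) (S.inW_par c)
  set c1 := y0 * c with hc1
  have hc1C : S.Cen c1 := S.cen_mul hy0.1 hc
  have hp1 : S.par c1 = 0 := by rw [hc1, S.par_core_mul hy0 hc, hp, add_self_V]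
  have hk1 : S.par (d.s * c1 * d.s) = 0 := by
    rw [hc1, d.s_conj, S.par_core_mul (d.core_s hy0) (d.cen_s hc), d.par_s, hk, add_self_V]
  obtain ⟨e1, h1⟩ := d.comm_q_of_par hc1C hp1
  obtain ⟨e2, h2⟩ := d.comm_q_of_par (d.cen_s hc1C) hk1
  have h1' : d.q * c1 * d.q = zp z e1 * c1 := mul_inv_eq_iff_eq_mul.1 h1
  have h2' : d.q * (d.s * c1 * d.s) * d.q = zp z e2 * (d.s * c1 * d.s) := mul_inv_eq_iff_eq_mul.1 h2
  have key : ∀ {x : G}, d.q * x * d.q = x → x * d.q = d.q * x := fun {x} e => by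
    calc x * d.q = d.q * x * d.q * d.q := by rw [e]
      _ = _ := by rw [mul_assoc, d.qq, mul_one]
  refine ⟨zp z e2 * zp a e1 * y0, S.core_mul (S.core_four _ _) hy0, ?_⟩
  rw [mul_assoc, ← hc1]
  have hfz : ∀ t t' u : ZMod 2, zp z t * zp a t' * zp z u = zp z (t + u) * zp a t' := fun t t' u => by
    have := S.four_mul t t' u 0
    rwa [zp_zero, mul_one, add_zero] at this
  refine ⟨S.cen_mul (S.cen_zp _ _) hc1C, key ?_, key ?_⟩
  · rw [d.q_conj, d.q_four, h1', ← mul_assoc, hfz, add_assoc, CharTwo.add_self_eq_zero, add_zero]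
  · rw [d.s_conj, d.s_four, d.q_conj, d.q_four, h2', ← mul_assoc, hfz, add_assoc,
      CharTwo.add_self_eq_zero, add_zero]

theorem hb_one : d.Hb id 1 := ⟨d.lm_one, fun i => S.bar_q Q.one_mem (inW_ww i)⟩

theorem hb_mul {f g : Fin 64 → Fin 64} {x y : G} (hx : d.Hb f x) (hy : d.Hb g y) : d.Hb (f ∘ g) (x * y) :=
  ⟨d.lm_mul hx.1 hy.1, fun i => by rw [S.bar_mul hx.1.1 hy.1.1 (inW_ww i), hy.2, hx.2]; rfl⟩

theorem hb_ext {f f' : Fin 64 → Fin 64} {x y : G} (hx : d.Hb f x) (hy : d.Hb f' y) (e : ∀ i, f i = f' i) :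
    x = y := d.lm_ext hx.1 hy.1 fun i => by rw [hx.2, hy.2, e]

/-- Every product of pairs of reflections is induced. -/
theorem exists_hb : ∀ l : List (Fin 64 × Fin 64), Ok l → ∃ g, d.Hb (pf l) g
  | [], _ => ⟨1, d.hb_one⟩
  | p :: l, h => by
    obtain ⟨g, hg⟩ := exists_hb l fun x hx => h x (List.mem_cons_of_mem _ hx)
    obtain ⟨h1, h2⟩ := h p List.mem_cons_self
    obtain ⟨c, hc, -, hcb, -⟩ := S.lift_W h1 h2 (inW_ww _) (inW_ww _)
    obtain ⟨y, hy, hl⟩ := d.exists_fix hc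
    have hb : d.Hb (Rp p) (y * c) := ⟨hl, fun i => by
      rw [S.bar_mul hy.1 hc (inW_ww i), hy.2 _ (S.bar_inW _ _), hcb _ (inW_ww i), ww_Rp]⟩
    exact ⟨_, d.hb_mul hb hg⟩

theorem hb_invol {f : Fin 64 → Fin 64} {g : G} (hg : d.Hb f g) (h : ∀ i, f (f i) = i) : g * g = 1 :=
  d.hb_ext (d.hb_mul hg hg) d.hb_one h

/-! ### Representatives -/

omit [Finite G] in
theorem exists_rep (i : Fin 64) : ∃ k, d.Rep i k := S.F.surj (ww i)

omit [Finite G] in
theorem rep_mul {i j : Fin 64} {k l : G} (hk : d.Rep i k) (hl : d.Rep j l) : d.Rep (i ^^^ j) (k * l) :=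
  ⟨Q.mul_mem hk.1 hl.1, by rw [S.F.vec_mul hk.1 hl.1, hk.2, hl.2, ww_xor]⟩

omit [Finite G] in
theorem rep_z {i : Fin 64} {k : G} (hk : d.Rep i k) (t : ZMod 2) : d.Rep i (zp z t * k) :=
  ⟨Q.mul_mem (S.zp_mem t) hk.1, by rw [S.F.vec_mul (S.zp_mem t) hk.1, S.vec_zp, zero_add, hk.2]⟩

omit [Finite G] in
theorem rep_eq {i : Fin 64} {k l : G} (hk : d.Rep i k) (hl : d.Rep i l) : ∃ t, l = zp z t * k := by
  have h1 := Q.mul_mem hl.1 (Q.inv_mem hk.1)
  have h2 : S.F.vec (l * k⁻¹) = 0 := by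
    rw [S.F.vec_mul hl.1 (Q.inv_mem hk.1), S.vec_inv hk.1, hk.2, hl.2, add_self_V]
  rcases S.F.vec_cases h1 h2 with e | e
  · exact ⟨0, by rw [zp_zero, one_mul, ← mul_inv_eq_one.1 e]⟩
  · exact ⟨1, by rw [zp_one, ← mul_inv_eq_iff_eq_mul.1 e]⟩

omit [Finite G] in
theorem rep_sq {i : Fin 64} {k : G} (hk : d.Rep i k) : k * k = zp z (qf (ww i)) := by rw [S.F.sq hk.1, hk.2]

omit [Finite G] in
theorem rep_comm {i j : Fin 64} {k l : G} (hk : d.Rep i k) (hl : d.Rep j l) :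
    k * l = zp z (bf (ww i) (ww j)) * (l * k) := by rw [S.F.comm hk.1 hl.1, hk.2, hl.2]

omit [Finite G] in
theorem rep_y1 {i : Fin 64} {k : G} (hk : d.Rep i k) : y1 (S.F.vec k) = 0 := by rw [hk.2]; rfl

theorem rep_core {i : Fin 64} {k : G} (hk : d.Rep i k) :
    S.Core k ∧ S.kap d.s k = ww i ∧ S.par k = 0 :=
  ⟨S.core_q hk.1 (d.rep_y1 hk), by rw [S.kap_q d.hs hk.1 (d.rep_y1 hk), hk.2, pw_eq (inW_ww i)],
    S.par_q hk.1⟩

theorem rep_q {i : Fin 64} {k : G} (hk : d.Rep i k) : d.q * k * d.q = k := by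
  have hb : bf f1 (ww i) = 0 := by rw [bf_comm, bf_f1]; exact (inW_ww i).1
  have h := S.F.comm d.hq hk.1
  rw [hk.2, d.hqv, hb, zp_zero, one_mul] at h
  rw [h, mul_assoc, d.qq, mul_one]

/-- Conjugation by the complement. -/
theorem rep_conj {f : Fin 64 → Fin 64} {g : G} (hg : d.Hb f g) {i : Fin 64} {k : G} (hk : d.Rep i k) :
    d.Rep (f i) (g * k * g⁻¹) := by
  refine ⟨S.h.conj_mem hg.1.1.1 hk.1, ?_⟩
  have hx : x1 (act (S.act' g) (ww i)) = 0 := by
    rw [← bf_f1]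
    conv_lhs => rw [← (d.lm_par hg.1).2]
    rw [act_bf, bf_f1]
    exact (inW_ww i).1
  have hy : y1 (act (S.act' g) (ww i)) = 0 := by rw [S.y1_act hg.1.1]; rfl
  rw [S.vec_conj hg.1.1.1 hk.1, hk.2, ← hg.2 i, St.bar]
  conv_lhs => rw [eq_pw_of_y1 hy, hx, sm_zero, add_zero]

/-- The product of two exchanged representatives is inverted. -/
theorem flip_of_swap {f : Fin 64 → Fin 64} {g : G} (hg : d.Hb f g) (hff : ∀ i, f (f i) = i) {u : Fin 64}
    (hb : bf (ww u) (ww (f u)) = 1) {k : G} (hk : d.Rep (u ^^^ f u) k) : g * k * g⁻¹ = z * k := by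
  obtain ⟨x, hx⟩ := d.exists_rep u
  have hy : d.Rep (f u) (g * x * g⁻¹) := d.rep_conj hg hx
  set y := g * x * g⁻¹ with hy0
  have hgy : g * y * g⁻¹ = x := by
    rw [hy0, inv_eq_of_mul_eq_one_right (d.hb_invol hg hff)]
    calc g * (g * x * g) * g = (g * g) * x * (g * g) := by group
      _ = x := by rw [d.hb_invol hg hff, one_mul, mul_one]
  obtain ⟨t, rfl⟩ := d.rep_eq (d.rep_mul hx hy) hk
  have hc := d.rep_comm hx hy
  rw [hb, zp_one] at hc
  have hgz : g * zp z t * g⁻¹ = zp z t := by rw [zp_comm hg.1.1.1, mul_inv_cancel_right]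
  calc g * (zp z t * (x * y)) * g⁻¹ = (g * zp z t * g⁻¹) * ((g * x * g⁻¹) * (g * y * g⁻¹)) := by group
    _ = zp z t * (y * x) := by rw [hgz, hgy, ← hy0]
    _ = _ := by
      rw [hc, ← mul_assoc z, zp_comm (show z * z = z * z from rfl), mul_assoc (zp z t) z,
        ← mul_assoc z z, S.h.zz, one_mul]

/-- The root element inverts the representatives of `p1`. -/
theorem root_flip {r : G} (hr : d.Hb A0f r) {k : G} (hk : d.Rep 48 k) : r * k * r⁻¹ = z * k := by
  obtain ⟨h1, h2, h3, h4, h5, h6, h7, h8, h9⟩ := flip_data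
  obtain ⟨g, hg⟩ := d.exists_hb _ h1
  obtain ⟨h, hh⟩ := d.exists_hb _ h7
  have hgk : g * k * g⁻¹ = z * k := d.flip_of_swap hg h4 (u := 19) (by rw [h3]; exact h5) (by rwa [h3, h6])
  have hhk : ∀ {k : G}, d.Rep 48 k → ∃ t, h * k * h⁻¹ = zp z t * k := fun {k} hk =>
    d.rep_eq hk (by simpa [h8] using d.rep_conj hh hk)
  obtain ⟨t, ht⟩ := hhk hk
  have h2h : h * (h * k * h⁻¹) * h⁻¹ = k := by
    rw [ht, show h * (zp z t * k) * h⁻¹ = (h * zp z t) * (k * h⁻¹) by group, zp_comm hh.1.1.1,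
      mul_assoc, show h * (k * h⁻¹) = h * k * h⁻¹ by group, ht, ← mul_assoc, ← zp_add S.h.zz,
      CharTwo.add_self_eq_zero, zp_zero, one_mul]
  rw [d.hb_ext hr (d.hb_mul hg (d.hb_mul hh hh)) fun i => (h9 i).symm]
  calc g * (h * h) * k * (g * (h * h))⁻¹ = g * (h * (h * k * h⁻¹) * h⁻¹) * g⁻¹ := by group
    _ = _ := by rw [h2h, hgk]

/-- The root element fixes the representatives of `s4`. -/
def Good : Prop := ∀ {r k : G}, d.Hb A0f r → d.Rep 16 k → r * k * r⁻¹ = k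

theorem flip_other (hn : ¬ d.Good) {r k : G} (hr : d.Hb A0f r) (hk : d.Rep 32 k) : r * k * r⁻¹ = k := by
  by_contra hne
  apply hn
  intro r' k' hr' hk'
  rw [d.hb_ext hr' hr fun _ => rfl]
  have e16 : A0f 16 = 16 ∧ A0f 32 = 32 ∧ (16 : Fin 64) ^^^ 32 = 48 := by decide +kernel
  obtain ⟨t, ht⟩ := d.rep_eq hk' (e16.1 ▸ d.rep_conj hr hk')
  obtain ⟨u, hu⟩ := d.rep_eq hk (e16.2.1 ▸ d.rep_conj hr hk)
  have hu1 : u = 1 := (z2 u).resolve_left fun e => hne (by rw [hu, e, zp_zero, one_mul])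
  have h48 := d.root_flip hr (e16.2.2 ▸ d.rep_mul hk' hk)
  rw [show r * (k' * k) * r⁻¹ = (r * k' * r⁻¹) * (r * k * r⁻¹) by group, ht, hu, hu1, zp_one,
    mul_assoc (zp z t), ← mul_assoc k', S.qz hk'.1, mul_assoc z, ← mul_assoc, mul_left_inj,
    mul_eq_right] at h48
  rw [ht, h48, one_mul]

end Gen

end Cfsg.Agent.ConwayType.Octad
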