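import Cfsg.Agent.Lib.ConwayType.Octad.M24
import Cfsg.Agent.Lib.ConwayType.Main

/-!
A group of Conway type has a split extension of `2^11` by the Mathieu group of degree 24 as a two-local
subgroup, with two orbits on the nontrivial elements.
-/

set_option autoImplicit false

namespace Cfsg.Agent.ConwayType.Octad

open Subgroup Cfsg.Agent.LargeExtra

variable {G : Type*} [Group G] [Finite G]

theorem golay_local (z : G) (hz : orderOf z = 2) (Q : Subgroup (centralizer ({z} : Set G))) [Q.Normal]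
    (hF : Cfsg.generalizedFittingSubgroup (centralizer ({z} : Set G)) = Q) (hQ : Cfsg.IsExtraspecial 2 Q)
    (hcard : Nat.card Q = 2 ^ 9)
    (e : (centralizer ({z} : Set G)) ⧸ Q ≃* Cfsg.Omega (ZMod 2) (Cfsg.quadFormPlus 4 (ZMod 2)))
    (hnwc : ∃ g : G, (∃ hq : g * z * g⁻¹ ∈ centralizer ({z} : Set G),
      (⟨g * z * g⁻¹, hq⟩ : centralizer ({z} : Set G)) ∈ Q) ∧ g * z * g⁻¹ ≠ z) :
    ∃ A : Subgroup G, Cfsg.IsElementaryAbelian 2 A ∧ Nat.card A = 2 ^ 11 ∧ z ∈ A ∧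
      ∃ _ : (A.subgroupOf (normalizer (A : Set G))).Normal,
        Nonempty (↥(normalizer (A : Set G)) ⧸ A.subgroupOf (normalizer (A : Set G)) ≃* ↥Cfsg.M24) ∧
        (∃ K : Subgroup ↥(normalizer (A : Set G)), (A.subgroupOf (normalizer (A : Set G))).IsComplement' K) ∧
        ∃ a ∈ A, ∃ b ∈ A, a ≠ 1 ∧ b ≠ 1 ∧ (∀ n ∈ normalizer (A : Set G), n * a * n⁻¹ ≠ b) ∧
          ∀ c ∈ A, c ≠ 1 → ∃ n ∈ normalizer (A : Set G), n * c * n⁻¹ = a ∨ n * c * n⁻¹ = b := by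
  classical
  set Q0 := Q.map (centralizer ({z} : Set G)).subtype with hQ0
  have hc0 : Nat.card ↥Q0 = 512 := by
    rw [hQ0, card_map_of_injective (centralizer ({z} : Set G)).subtype_injective, hcard]; norm_num
  have h : Ctr Q0 z := Ctr.of_fitting hz (map_subtype_le _) (by rw [hF])
    (isExtraspecial_of_equiv hQ (Q.equivMapOfInjective _ (centralizer ({z} : Set G)).subtype_injective))
  obtain ⟨g, ⟨hgC, hgQ⟩, hgz⟩ := hnwc
  have hgQ0 : g * z * g⁻¹ ∈ Q0 := ⟨_, hgQ, rfl⟩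
  have P := (Pair.mk' h hgQ0 hgz).two (by omega)
  have ha1 : g * z * g⁻¹ ≠ 1 := fun e0 => h.ne_one (conj_eq_one_iff.1 e0)
  have haa : g * z * g⁻¹ * (g * z * g⁻¹) = 1 := by
    rw [conj_mul, h.zz, mul_one, mul_inv_cancel]
  have heF : Cfsg.Omega (ZMod 2) (Cfsg.quadFormPlus 4 (ZMod 2)) ≃*
      ↥(Cfsg.Omega (ZMod 2) ⇑F8) := by
    rw [show F8 = Forms.PlusStd.plusQ (ZMod 2) 4 from rfl, Classical.OrthForms.plusQ_eq]
  let π0 : ↥(centralizer ({z} : Set G)) →* ↥(Cfsg.Omega (ZMod 2) ⇑F8) :=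
    heF.toMonoidHom.comp (e.toMonoidHom.comp (QuotientGroup.mk' Q))
  have hsurj : Function.Surjective π0 :=
    heF.surjective.comp (e.surjective.comp (QuotientGroup.mk'_surjective Q))
  have hker : ∀ c, π0 c = 1 ↔ (c : G) ∈ Q0 := fun c => by
    show heF (e (QuotientGroup.mk' Q c)) = 1 ↔ _
    rw [MulEquiv.map_eq_one_iff, MulEquiv.map_eq_one_iff]
    refine (QuotientGroup.eq_one_iff c).trans ⟨fun hc => ⟨c, hc, rfl⟩, ?_⟩
    rintro ⟨d, hd, hdc⟩
    rwa [← Subtype.ext hdc]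
  obtain ⟨F⟩ := frame_exists h hc0 π0 hsurj hker hgQ0 haa ha1 hgz
  obtain ⟨S, d, hd⟩ := exists_good (⟨P, F⟩ : St Q0 _ z (g * z * g⁻¹))
  obtain ⟨o⟩ := exists_oct hd
  exact ⟨o.A, o.main (by omega)⟩

end Cfsg.Agent.ConwayType.Octad
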