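import Cfsg.Agent.Lib.ConwayType.Octad.Data
import Cfsg.Agent.Lib.Golay.Basic

/-!
Checks on the model of the subgroup of order `2^11`: orbits, and the map to the code.
-/

set_option autoImplicit false
set_option maxRecDepth 100000

namespace Cfsg.Agent.ConwayType.Octad.Model

open Cfsg.Agent.Golay.Basic (enc pc isCode basisMasks)

/-- The image under a generator. -/
def img (g x : ℕ) : ℕ := enc (Data.imgs.getD g []) x

/-- The closure along a search tree. -/
def grow : List ℕ → ℕ → ℕ
  | [], m => m
  | e :: l, m => grow l (bif m.testBit (e % 2048) then m ||| 1 <<< img (e / 2048) (e % 2048) else m)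

/-- The orbit of a representative. -/
abbrev orb (i : ℕ) : ℕ := Data.masks.getD i 0

theorem grow_spec {P : ℕ → Prop} : ∀ {l : List ℕ} {m : ℕ},
    (∀ e ∈ l, ∀ x, P x → x = e % 2048 → P (img (e / 2048) x)) → (∀ x, m.testBit x = true → P x) →
    ∀ x, (grow l m).testBit x = true → P x
  | [], _, _, hm, x, hx => hm x hx
  | e :: l, m, hg, hm, x, hx => by
    refine grow_spec (l := l) (fun e' he' => hg e' (List.mem_cons_of_mem _ he')) ?_ x hx
    intro y hy
    cases hb : m.testBit (e % 2048)
    · rw [hb, cond_false] at hy; exact hm y hy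
    · rw [hb, cond_true, Nat.testBit_or, Bool.or_eq_true] at hy
      rcases hy with hy | hy
      · exact hm y hy
      · rw [Nat.one_shiftLeft, Nat.testBit_two_pow, decide_eq_true_eq] at hy
        subst hy
        exact hg e List.mem_cons_self _ (hm _ hb) rfl

/-- The trees. -/
abbrev trees : List (List ℕ) := [Data.tree0, Data.tree1, Data.tree2, Data.tree3, Data.tree4, Data.tree5]

theorem grow_orb : ∀ i : Fin 6, grow (trees.getD i.1 []) (1 <<< Data.reps.getD i.1 0) = orb i.1 := by
  decide +kernel

theorem grow_A : grow Data.treeA (1 <<< 8) = Data.maskA := by decide +kernel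

theorem tree_gens : (∀ i : Fin 6, ∀ e ∈ trees.getD i.1 [], e / 2048 < 7) ∧
    ∀ e ∈ Data.treeA, 1 ≤ e / 2048 ∧ e / 2048 < 10 := by decide +kernel

theorem orb_cover : ∀ x : Fin 2048, x.1 = 0 ∨ ∃ i : Fin 6, (orb i.1).testBit x.1 = true := by
  decide +kernel

theorem maskA_mem : ∀ v : Fin 8, ∀ t : Fin 4, v.1 ≠ 0 →
    Data.maskA.testBit (v.1 <<< 3 ||| t.1 <<< 9) = true := by decide +kernel

theorem maskA_card : ((List.range 2048).filter fun x => Data.maskA.testBit x).length = 28 := by decide +kernel

theorem zlist_eq : (List.range 2048).filter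
    (fun x => (orb 0).testBit x || (orb 1).testBit x || (orb 2).testBit x) = Data.zlist := by decide +kernel

theorem zlist_card : Data.zlist.length = 759 := by decide +kernel

/-- Membership of the first two and the fusion targets. -/
theorem named : (orb 1).testBit 8 = true ∧ (orb 1).testBit 520 = true ∧ (orb 3).testBit 136 = true ∧
    (orb 3).testBit 160 = true ∧ (orb 0).testBit 1024 = true ∧ (orb 0).testBit 1536 = true := by decide +kernel

/-- The coset of a root element in the part over the first copy. -/
def cos (b : ℕ) : List ℕ := (List.range 2048).filter fun x => x % 8 == b && x / 64 % 8 == 0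

/-- The three possibilities for the image of a member of the second copy. -/
theorem sel3 : ∀ x ∈ cos 4, ∀ t ∈ ([0, 512] : List ℕ), ∀ t' ∈ ([0, 512] : List ℕ),
    ((orb 2).testBit x = true ∧ (orb 5).testBit (x ^^^ (1024 ||| t)) = true ∧
      (orb 4).testBit (x ^^^ (32 ||| t')) = true) ∨
    ((orb 5).testBit x = true ∧ (orb 2).testBit (x ^^^ (1024 ||| t)) = true ∧
      (orb 4).testBit (x ^^^ (32 ||| t')) = true) ∨
    ((orb 4).testBit x = true ∧ (orb 4).testBit (x ^^^ (1024 ||| t)) = true) := by decide +kernel

theorem sel2 : ∀ x ∈ cos 2, ∀ t ∈ ([0, 512] : List ℕ),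
    ((orb 2).testBit x = true ∧ (orb 5).testBit (x ^^^ (1024 ||| t)) = true) ∨
    ((orb 5).testBit x = true ∧ (orb 2).testBit (x ^^^ (1024 ||| t)) = true) ∨
    ((orb 4).testBit x = true ∧ (orb 4).testBit (x ^^^ (1024 ||| t)) = true) := by decide +kernel

theorem sel_sum : ∀ x ∈ (cos 4).filter (fun x => (orb 5).testBit x),
    ∀ y ∈ (cos 2).filter (fun y => (orb 5).testBit y),
    (orb 2).testBit (x ^^^ y) = true ∨ (orb 4).testBit (x ^^^ y) = true := by decide +kernel

/-! ### The map to the code -/

/-- The code word. -/
def eta (x : ℕ) : ℕ := enc Data.psi x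

theorem eta_code : ∀ x : Fin 2048, isCode (eta x.1) = true ∧ eta x.1 < 2 ^ 24 ∧
    (x.1 ≠ 0 → eta x.1 ≠ 0 ∧ eta x.1 ≠ 16777215) := by decide +kernel

theorem basis_pre : ∀ i : Fin 12, Data.pre.getD i.1 0 < 2048 ∧
    (eta (Data.pre.getD i.1 0) = basisMasks.getD i.1 0 ∨
      eta (Data.pre.getD i.1 0) = basisMasks.getD i.1 0 ^^^ 16777215) := by decide +kernel

theorem full_code : isCode 16777215 = true := by decide +kernel

/-- Folded parity of the low eleven bits. -/
def fold (u : ℕ) : ℕ :=
  let u := u ^^^ u >>> 8
  let u := u ^^^ u >>> 4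
  let u := u ^^^ u >>> 2
  u ^^^ u >>> 1

theorem fold_xor (a b : ℕ) : fold (a ^^^ b) = fold a ^^^ fold b := by
  simp only [fold, Nat.shiftRight_xor_distrib]
  ac_rfl

/-- Parity of the common bits. -/
def par (f x : ℕ) : Bool := (fold (f &&& x)).testBit 0

theorem par_xor_right (f x y : ℕ) : par f (x ^^^ y) = (par f x != par f y) := by
  rw [par, Nat.and_xor_distrib_left, fold_xor, Nat.testBit_xor]; rfl

theorem par_comm (f x : ℕ) : par f x = par x f := by simp only [par, Nat.and_comm f x]

theorem par_xor_left (f g x : ℕ) : par (f ^^^ g) x = (par f x != par g x) := by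
  rw [par_comm, par_xor_right, par_comm x, par_comm x]

theorem par_two_pow : ∀ f : Fin 2048, ∀ i : Fin 11, par f.1 (2 ^ i.1) = f.1.testBit i.1 := by decide +kernel

/-- The functional of a point. -/
abbrev row (a : ℕ) : ℕ := Data.rows.getD a 0

theorem row_spec : ∀ a : Fin 24, row a.1 < 2048 ∧ ∀ x : Fin 2048, par (row a.1) x.1 = (eta x.1).testBit a.1 := by
  decide +kernel

/-- The pair of a functional, packed. -/
def pairOf (f : ℕ) : ℕ := Data.pairs >>> (10 * f) % 1024

/-- Parities of the numbers below 2048. -/
def ptab : ℕ :=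
  0x96696996699696696996966996696996699696699669699696696996699696696996966996696996966969966996966996696996699696696996966996696996699696699669699696696996699696699669699669969669699696699669699696696996699696696996966996696996699696699669699696696996699696696996966996696996966969966996966996696996699696696996966996696996966969966996966969969669966969966996966996696996966969966996966996696996699696696996966996696996699696699669699696696996699696696996966996696996966969966996966996696996699696696996966996696996

theorem ptab_spec : ∀ u : Fin 2048, ptab.testBit u.1 = (fold u.1).testBit 0 := by decide +kernel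

/-- Parity from the table. -/
def parF (f x : ℕ) : Bool := ptab.testBit (f &&& x)

theorem parF_eq {f x : ℕ} (hx : x < 2048) : parF f x = par f x :=
  ptab_spec ⟨f &&& x, lt_of_le_of_lt Nat.and_le_right hx⟩

/-- The number of octads on which a functional is odd. -/
def cnt (f : ℕ) : ℕ := (Data.zlist.filter (parF f)).length

theorem pair_row : ∀ a b : Fin 24, a < b → pairOf (row a.1 ^^^ row b.1) = a.1 * 32 + b.1 := by decide +kernel

/-- The check of one functional. -/
def fOK (f : ℕ) : Bool :=
  ((cnt f == 352) == !(pairOf f == 0)) &&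
    (pairOf f == 0 || (Nat.blt (pairOf f / 32) (pairOf f % 32) && Nat.blt (pairOf f % 32) 24 &&
      row (pairOf f / 32) ^^^ row (pairOf f % 32) == f))

theorem fOK_0 : (List.range' 0 256).all fOK = true := by decide +kernel

theorem fOK_1 : (List.range' 256 256).all fOK = true := by decide +kernel

theorem fOK_2 : (List.range' 512 256).all fOK = true := by decide +kernel

theorem fOK_3 : (List.range' 768 256).all fOK = true := by decide +kernel

theorem fOK_4 : (List.range' 1024 256).all fOK = true := by decide +kernel

theorem fOK_5 : (List.range' 1280 256).all fOK = true := by decide +kernel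

theorem fOK_6 : (List.range' 1536 256).all fOK = true := by decide +kernel

theorem fOK_7 : (List.range' 1792 256).all fOK = true := by decide +kernel

theorem pair_spec {f : ℕ} (hf : f < 2048) : ((cnt f == 352) == !(pairOf f == 0)) = true ∧
    (pairOf f = 0 ∨ (pairOf f / 32 < pairOf f % 32 ∧ pairOf f % 32 < 24 ∧
      row (pairOf f / 32) ^^^ row (pairOf f % 32) = f)) := by
  have key : ∀ {k : ℕ}, (List.range' k 256).all fOK = true → k ≤ f → f < k + 256 → fOK f = true :=
    fun h h1 h2 => List.all_eq_true.1 h f (List.mem_range'_1.2 ⟨h1, h2⟩)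
  have h : fOK f = true := by
    rcases Nat.lt_or_ge f 256 with h | h
    · exact key fOK_0 (Nat.zero_le _) h
    rcases Nat.lt_or_ge f 512 with h | h
    · exact key fOK_1 (by omega) h
    rcases Nat.lt_or_ge f 768 with h | h
    · exact key fOK_2 (by omega) h
    rcases Nat.lt_or_ge f 1024 with h | h
    · exact key fOK_3 (by omega) h
    rcases Nat.lt_or_ge f 1280 with h | h
    · exact key fOK_4 (by omega) h
    rcases Nat.lt_or_ge f 1536 with h | h
    · exact key fOK_5 (by omega) h
    rcases Nat.lt_or_ge f 1792 with h | h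
    · exact key fOK_6 (by omega) h
    · exact key fOK_7 (by omega) hf
  simp only [fOK, Bool.and_eq_true, Bool.or_eq_true, beq_iff_eq, Nat.blt_eq] at h
  refine ⟨?_, h.2.imp_right fun h' => ⟨h'.1.1, h'.1.2, h'.2⟩⟩
  exact beq_iff_eq.2 h.1

theorem pair_disjoint : ∀ a b c e : Fin 24, a < b → c < e → a < c → b ≠ c → b ≠ e →
    pairOf (row a.1 ^^^ row b.1 ^^^ (row c.1 ^^^ row e.1)) = 0 := by decide +kernel

/-- The generators of the binary expansion. -/
theorem bits_enc : ∀ x : Fin 2048, enc [1, 2, 4, 8, 16, 32, 64, 128, 256, 512, 1024] x.1 = x.1 := by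
  decide +kernel

end Cfsg.Agent.ConwayType.Octad.Model
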