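import Cfsg.Agent.Lib.ConwayType.Octad.Good
import Cfsg.Agent.Lib.ConwayType.Octad.Ev

/-!
The three root elements of the radical of the plane `⟨h1, h2, s4⟩` and their commutators with the
representatives of the opposite plane.
-/

set_option autoImplicit false
set_option maxRecDepth 20000

namespace Cfsg.Agent.ConwayType.Octad

open Subgroup Cfsg.Agent.LargeExtra Cfsg.Agent.OctadInv.Orbits

/-- The cyclic shift of the three pairs of coordinates. -/
def fA : Fin 64 → Fin 64 := pf [(27, 30), (45, 57)]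

/-- The exchange of the outer pairs of coordinates. -/
def fh : Fin 64 → Fin 64 := pf [(3, 48)]

/-- The transvection sending the second vector of the plane to the sum of the first two. -/
def fB (i : Fin 64) : Fin 64 := fh (A0f (fh i))

/-- The root elements on the indices. -/
def fR : Fin 3 → Fin 64 → Fin 64 :=
  ![fun i => fA (A0f (fA (fA i))), fun i => fA (fA (A0f (fA i))), A0f]

/-- The indices of the plane. -/
def eI : Fin 3 → Fin 64 := ![1, 4, 16]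

/-- The indices of the opposite plane. -/
def dI : Fin 3 → Fin 64 := ![2, 8, 32]

theorem fA_ok : Ok [(27, 30), (45, 57)] ∧ Ok [(3, 48)] ∧ Ok [(48, 49), (52, 53)] := by decide +kernel

theorem fA_eq : ∀ i, fA (fA (fA i)) = i ∧ fh (fh i) = i ∧ A0f (A0f i) = i ∧ fB (fB i) = i := by
  decide +kernel

/-- The plane as a set of indices. -/
abbrev InP (i : Fin 64) : Prop := i ∈ ([0, 1, 4, 5, 16, 17, 20, 21] : List (Fin 64))

variable {G : Type*} [Group G] [Finite G] {Q Q' : Subgroup G} {z a : G} {S : St Q Q' z a}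

/-- The data chosen in the complement. -/
structure Oct (d : Gen S) where
  gA : G
  hh : G
  r2 : G
  hA : d.Hb fA gA
  hH : d.Hb fh hh
  h2 : d.Hb A0f r2
  good : d.Good

theorem exists_oct {d : Gen S} (hd : d.Good) : Nonempty (Oct d) := by
  obtain ⟨h1, h2, h3⟩ := fA_ok
  obtain ⟨g, hg⟩ := d.exists_hb _ h1
  obtain ⟨h, hh⟩ := d.exists_hb _ h2
  obtain ⟨r, hr⟩ := d.exists_hb _ h3
  exact ⟨⟨g, h, r, hg, hh, A0f_ok ▸ hr, hd⟩⟩

namespace Oct

/-- The action may be replaced by an equal one. -/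
theorem hb_congr {d : Gen S} {f f' : Fin 64 → Fin 64} {g : G} (h : d.Hb f g) (e : ∀ i, f i = f' i) : d.Hb f' g :=
  ⟨h.1, fun i => by rw [← e, h.2]⟩

variable {d : Gen S} (o : Oct d)

/-- The root elements. -/
def r : Fin 3 → G := ![o.gA * o.r2 * o.gA⁻¹, o.gA * (o.gA * o.r2 * o.gA⁻¹) * o.gA⁻¹, o.r2]

/-- The transvection. -/
def gB : G := o.hh * o.r2 * o.hh

include o

theorem gA3 : o.gA * o.gA * o.gA = 1 :=
  d.hb_ext (d.hb_mul (d.hb_mul o.hA o.hA) o.hA) d.hb_one fun i => (fA_eq i).1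

theorem gA_inv : o.gA⁻¹ = o.gA * o.gA := inv_eq_of_mul_eq_one_left o.gA3

theorem hA' : d.Hb (fA ∘ fA) o.gA⁻¹ := o.gA_inv ▸ d.hb_mul o.hA o.hA

theorem hh2 : o.hh * o.hh = 1 := d.hb_invol o.hH fun i => (fA_eq i).2.1

theorem hB : d.Hb fB o.gB :=
  hb_congr (d.hb_mul (d.hb_mul o.hH o.h2) o.hH)
    ((by decide +kernel : ∀ j, fh (A0f (fh j)) = fB j))

theorem gB2 : o.gB * o.gB = 1 := d.hb_invol o.hB fun i => (fA_eq i).2.2.2

theorem gB_inv : o.gB⁻¹ = o.gB := inv_eq_of_mul_eq_one_right o.gB2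

theorem hR : ∀ i, d.Hb (fR i) (o.r i) := by
  have h0 : d.Hb (fR 0) (o.gA * o.r2 * o.gA⁻¹) :=
    hb_congr (d.hb_mul (d.hb_mul o.hA o.h2) o.hA')
      ((by decide +kernel : ∀ j, fA (A0f (fA (fA j))) = fR 0 j))
  intro i
  fin_cases i
  · exact h0
  · exact hb_congr (d.hb_mul (d.hb_mul o.hA h0) o.hA')
      ((by decide +kernel : ∀ j, fA (fR 0 (fA (fA j))) = fR 1 j))
  · exact hb_congr o.h2 ((by decide +kernel : ∀ j, A0f j = fR 2 j))

theorem r_sq (i : Fin 3) : o.r i * o.r i = 1 :=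
  d.hb_invol (o.hR i) ((by decide +kernel : ∀ i j, fR i (fR i j) = j) i)

theorem r_inv (i : Fin 3) : (o.r i)⁻¹ = o.r i := inv_eq_of_mul_eq_one_right (o.r_sq i)

theorem r_comm (i j : Fin 3) : o.r i * o.r j = o.r j * o.r i :=
  d.hb_ext (d.hb_mul (o.hR i) (o.hR j)) (d.hb_mul (o.hR j) (o.hR i))
    ((by decide +kernel : ∀ i j k, fR i (fR j k) = fR j (fR i k)) i j)

theorem r_shift : o.gA * o.r 0 * o.gA⁻¹ = o.r 1 ∧ o.gA * o.r 1 * o.gA⁻¹ = o.r 2 ∧
    o.gA * o.r 2 * o.gA⁻¹ = o.r 0 := by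
  refine ⟨rfl, ?_, rfl⟩
  exact d.hb_ext (d.hb_mul (d.hb_mul o.hA (o.hR 1)) o.hA') (o.hR 2)
    ((by decide +kernel : ∀ j, fA (fR 1 (fA (fA j))) = fR 2 j))

theorem r_gB : o.gB * o.r 0 * o.gB⁻¹ = o.r 0 ∧ o.gB * o.r 1 * o.gB⁻¹ = o.r 0 * o.r 1 ∧
    o.gB * o.r 2 * o.gB⁻¹ = o.r 2 := by
  rw [o.gB_inv]
  refine ⟨?_, ?_, ?_⟩
  · exact d.hb_ext (d.hb_mul (d.hb_mul o.hB (o.hR 0)) o.hB) (o.hR 0)
      ((by decide +kernel : ∀ j, fB (fR 0 (fB j)) = fR 0 j))
  · exact d.hb_ext (d.hb_mul (d.hb_mul o.hB (o.hR 1)) o.hB) (d.hb_mul (o.hR 0) (o.hR 1))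
      ((by decide +kernel : ∀ j, fB (fR 1 (fB j)) = fR 0 (fR 1 j)))
  · exact d.hb_ext (d.hb_mul (d.hb_mul o.hB (o.hR 2)) o.hB) (o.hR 2)
      ((by decide +kernel : ∀ j, fB (fR 2 (fB j)) = fR 2 j))

omit o in
/-- Transport of a relation on a representative by an element of the complement. -/
theorem transport {f : Fin 64 → Fin 64} {g x : G} (hg : d.Hb f g) (hx : d.Lm x) {i : Fin 64} {t : ZMod 2}
    (h : ∀ {k : G}, d.Rep i k → x * k * x⁻¹ = zp z t * k) {k : G} (hk : d.Rep (f i) k) :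
    g * x * g⁻¹ * k * (g * x * g⁻¹)⁻¹ = zp z t * k := by
  obtain ⟨k0, hk0⟩ := d.exists_rep i
  obtain ⟨u, rfl⟩ := d.rep_eq (d.rep_conj hg hk0) hk
  have hc : ∀ {y : G}, d.Lm y → ∀ t, y * zp z t * y⁻¹ = zp z t := fun hy t => by
    rw [zp_comm hy.1.1, mul_inv_cancel_right]
  calc g * x * g⁻¹ * (zp z u * (g * k0 * g⁻¹)) * (g * x * g⁻¹)⁻¹
      = (g * x * g⁻¹ * zp z u * (g * x * g⁻¹)⁻¹) * (g * (x * k0 * x⁻¹) * g⁻¹) := by group
    _ = zp z u * (g * (zp z t * k0) * g⁻¹) := by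
        rw [h hk0, hc (d.lm_mul (d.lm_mul hg.1 hx) (d.lm_inv hg.1))]
    _ = zp z u * ((g * zp z t * g⁻¹) * (g * k0 * g⁻¹)) := by group
    _ = _ := by
        rw [hc hg.1, ← mul_assoc, ← zp_add S.h.zz, add_comm, zp_add S.h.zz, mul_assoc]

omit o in
/-- An element fixes the representatives of the products of its fixed ones. -/
theorem fix_xor {x : G} {i j : Fin 64} (hi : ∀ {k : G}, d.Rep i k → x * k * x⁻¹ = k)
    (hj : ∀ {k : G}, d.Rep j k → x * k * x⁻¹ = k) (hxz : x * z = z * x) {k : G} (hk : d.Rep (i ^^^ j) k) :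
    x * k * x⁻¹ = k := by
  obtain ⟨u, hu⟩ := d.exists_rep i
  obtain ⟨v, hv⟩ := d.exists_rep j
  obtain ⟨t, rfl⟩ := d.rep_eq (d.rep_mul hu hv) hk
  rw [← conj_mul, ← conj_mul, hi hu, hj hv, zp_comm hxz, mul_inv_cancel_right]

theorem fix_image {i : Fin 64} (hc : bf (ww i) (ww (A0f i)) = 0) {k : G} (hk : d.Rep (A0f i ^^^ i) k) :
    o.r2 * k * o.r2⁻¹ = k := by
  obtain ⟨x, hx⟩ := d.exists_rep i
  have hy := d.rep_conj o.h2 hx
  have hr : o.r2⁻¹ = o.r2 := inv_eq_of_mul_eq_one_right (d.hb_invol o.h2 fun i => (fA_eq i).2.2.1)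
  rw [hr] at hy ⊢
  obtain ⟨t, rfl⟩ := d.rep_eq (d.rep_mul hy hx) hk
  have hcm := d.rep_comm hx hy
  rw [hc, zp_zero, one_mul] at hcm
  have hrr : o.r2 * o.r2 = 1 := d.hb_invol o.h2 fun i => (fA_eq i).2.2.1
  calc o.r2 * (zp z t * (o.r2 * x * o.r2 * x)) * o.r2
      = (o.r2 * zp z t) * (o.r2 * x * (o.r2 * (x * o.r2))) := by group
    _ = zp z t * ((o.r2 * o.r2) * x * (o.r2 * x * o.r2)) := by rw [zp_comm o.h2.1.1.1]; group
    _ = _ := by rw [hrr, one_mul, hcm]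

/-- The root elements fix the preimage of the plane. -/
theorem fix_plane (i : Fin 3) {j : Fin 64} (hj : InP j) {k : G} (hk : d.Rep j k) :
    o.r i * k * (o.r i)⁻¹ = k := by
  have b1 : ∀ {k : G}, d.Rep 1 k → o.r2 * k * o.r2⁻¹ = k := fun hk =>
    o.fix_image (i := 8) (by decide +kernel) (by rwa [show A0f 8 ^^^ 8 = (1 : Fin 64) by decide +kernel])
  have b4 : ∀ {k : G}, d.Rep 4 k → o.r2 * k * o.r2⁻¹ = k := fun hk =>
    o.fix_image (i := 2) (by decide +kernel) (by rwa [show A0f 2 ^^^ 2 = (4 : Fin 64) by decide +kernel])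
  have b16 : ∀ {k : G}, d.Rep 16 k → o.r2 * k * o.r2⁻¹ = k := fun hk => o.good o.h2 hk
  have b0 : ∀ {k : G}, d.Rep 0 k → o.r2 * k * o.r2⁻¹ = k := fun {k} hk => by
    rcases S.F.vec_cases hk.1 (by rw [hk.2, ww_zero]) with e | e
    · rw [e, mul_one, mul_inv_cancel]
    · rw [e, o.h2.1.1.1, mul_inv_cancel_right]
  have base : ∀ j, InP j → ∀ {k : G}, d.Rep j k → o.r2 * k * o.r2⁻¹ = k := by
    have b5 : ∀ {k : G}, d.Rep 5 k → o.r2 * k * o.r2⁻¹ = k := fun hk => fix_xor b1 b4 o.h2.1.1.1 hk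
    intro j hj k hk
    simp only [InP, List.mem_cons, List.not_mem_nil, or_false] at hj
    rcases hj with rfl | rfl | rfl | rfl | rfl | rfl | rfl | rfl
    · exact b0 hk
    · exact b1 hk
    · exact b4 hk
    · exact b5 hk
    · exact b16 hk
    · exact fix_xor b16 b1 o.h2.1.1.1 hk
    · exact fix_xor b16 b4 o.h2.1.1.1 hk
    · exact fix_xor b16 b5 o.h2.1.1.1 hk
  have hP : ∀ j, InP j → InP (fA j) ∧ InP (fA (fA j)) := by decide +kernel
  have shift : ∀ {x : G}, d.Lm x → (∀ j, InP j → ∀ {k : G}, d.Rep j k → x * k * x⁻¹ = k) →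
      ∀ j, InP j → ∀ {k : G}, d.Rep j k → o.gA * x * o.gA⁻¹ * k * (o.gA * x * o.gA⁻¹)⁻¹ = k := by
    intro x hx h j hj k hk
    have := transport o.hA hx (i := fA (fA j)) (t := 0)
      (fun {k} hk => by rw [zp_zero, one_mul]; exact h _ (hP j hj).2 hk) (k := k) (by rwa [(fA_eq j).1])
    rwa [zp_zero, one_mul] at this
  have h0 := shift o.h2.1 base
  fin_cases i
  · exact h0 j hj hk
  · exact shift (o.hR 0).1 h0 j hj hk
  · exact base j hj hk

/-- The root elements invert the representatives of their own index. -/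
theorem flip_own (i : Fin 3) {k : G} (hk : d.Rep (dI i) k) : o.r i * k * (o.r i)⁻¹ = z * k := by
  have base : ∀ {k : G}, d.Rep 32 k → o.r2 * k * o.r2⁻¹ = zp z 1 * k := fun {k} hk => by
    obtain ⟨u, hu⟩ := d.exists_rep 16
    have h := d.root_flip o.h2 (k := u * k) (d.rep_mul hu hk)
    rw [← conj_mul, o.good o.h2 hu, ← mul_assoc z, ← S.qz hu.1, mul_assoc u z] at h
    rw [zp_one]
    exact mul_left_cancel h
  have h0 : ∀ {k : G}, d.Rep 2 k → o.r 0 * k * (o.r 0)⁻¹ = zp z 1 * k := fun hk =>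
    transport o.hA o.h2.1 base (by rwa [show fA 32 = (2 : Fin 64) by decide +kernel])
  fin_cases i
  · exact (h0 hk).trans (by rw [zp_one])
  · exact (transport o.hA (o.hR 0).1 h0 (k := k)
      (by rwa [show fA 2 = (8 : Fin 64) by decide +kernel])).trans (by rw [zp_one])
  · exact (base hk).trans (by rw [zp_one])

/-- A lift of `dI i + dI j` inverted by the product of the two root elements. -/
theorem flip_two {k : G} (hk : d.Rep 10 k) : o.r 0 * o.r 1 * k * (o.r 0 * o.r 1)⁻¹ = z * k := by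
  rw [← o.r_gB.2.1]
  refine (transport o.hB (o.hR 1).1 (i := 8) (t := 1) (fun hk => ?_)
    (by rwa [show fB 8 = (10 : Fin 64) by decide +kernel])).trans (by rw [zp_one])
  rw [zp_one]; exact o.flip_own 1 hk

end Oct

end Cfsg.Agent.ConwayType.Octad
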