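import Cfsg.Agent.Lib.ConwayType.Octad.Actions
import Cfsg.Agent.Lib.ConwayType.Octad.Model

/-!
The subgroup of order `2^11`: it is self-centralising, and the tables give elements of its normalizer.
-/

set_option autoImplicit false
set_option maxRecDepth 20000

namespace Cfsg.Agent.ConwayType.Octad

open Subgroup Cfsg.Agent.LargeExtra Cfsg.Agent.OctadInv.Orbits

/-- The index of a vector of the plane from three bits. -/
def pI (v : ℕ) : Fin 64 :=
  (if v.testBit 0 then 1 else 0) ^^^ (if v.testBit 1 then 4 else 0) ^^^ (if v.testBit 2 then 16 else 0)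

/-- A product of root elements on the indices. -/
def wf (v : ℕ) (i : Fin 64) : Fin 64 :=
  (if v.testBit 0 then fR 0 else id) ((if v.testBit 1 then fR 1 else id) ((if v.testBit 2 then fR 2 else id) i))

theorem word_facts : (∀ v : Fin 8, InP (pI v.1)) ∧ (∀ v w : Fin 8, pI v.1 = pI w.1 → v = w) ∧
    (∀ v w : Fin 8, (∀ i : Fin 3, wf v.1 (dI i) = wf w.1 (dI i)) → v = w) ∧
    (∀ v : Fin 8, ∀ p : Fin 8, wf v.1 (pI p.1) = pI p.1) ∧
    (∀ j, InP j → ∃ v : Fin 8, pI v.1 = j) := by decide +kernel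

/-- Only the plane is orthogonal to the plane. -/
theorem perp_plane : ∀ i : Fin 64, (∀ j : Fin 3, bf (ww i) (ww (eI j)) = 0) → InP i := by decide +kernel

/-- An isometry fixing the plane is a product of root elements. -/
theorem fix_word : ∀ u0 u1 u2 : Fin 8,
    (qf (ww (dI 0 ^^^ pI u0.1)) = 0 ∧ qf (ww (dI 1 ^^^ pI u1.1)) = 0 ∧ qf (ww (dI 2 ^^^ pI u2.1)) = 0 ∧
      bf (ww (dI 0 ^^^ pI u0.1)) (ww (dI 1 ^^^ pI u1.1)) = 0 ∧
      bf (ww (dI 1 ^^^ pI u1.1)) (ww (dI 2 ^^^ pI u2.1)) = 0 ∧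
      bf (ww (dI 0 ^^^ pI u0.1)) (ww (dI 2 ^^^ pI u2.1)) = 0) →
    ∃ v : Fin 8, wf v.1 (dI 0) = dI 0 ^^^ pI u0.1 ∧ wf v.1 (dI 1) = dI 1 ^^^ pI u1.1 ∧
      wf v.1 (dI 2) = dI 2 ^^^ pI u2.1 := by decide +kernel

theorem perp_shift : ∀ i : Fin 64, ∀ j : Fin 3, (∀ m : Fin 3, bf (ww i) (ww (eI m)) = bf (ww (dI j)) (ww (eI m))) →
    ∃ u : Fin 8, i = dI j ^^^ pI u.1 := by decide +kernel

theorem six_span : ∀ i : Fin 64, i = (i &&& 1) ^^^ (i &&& 4) ^^^ (i &&& 16) ^^^ (i &&& 2) ^^^ (i &&& 8) ^^^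
    (i &&& 32) ∧ ((i &&& 1) = 0 ∨ (i &&& 1) = eI 0) ∧ ((i &&& 4) = 0 ∨ (i &&& 4) = eI 1) ∧
      ((i &&& 16) = 0 ∨ (i &&& 16) = eI 2) ∧ ((i &&& 2) = 0 ∨ (i &&& 2) = dI 0) ∧
      ((i &&& 8) = 0 ∨ (i &&& 8) = dI 1) ∧ ((i &&& 32) = 0 ∨ (i &&& 32) = dI 2) := by decide +kernel

variable {G : Type*} [Group G]

theorem ev_append : ∀ (L1 L2 : List G) (x : ℕ), ev (L1 ++ L2) x = ev L1 x * ev L2 (x / 2 ^ L1.length)
  | [], L2, x => by simp [ev]
  | b :: L1, L2, x => by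
    simp only [List.cons_append, ev, List.length_cons, ev_append L1 L2]
    rw [mul_assoc, Nat.div_div_eq_div_mul, pow_succ']

variable [Finite G] {Q Q' : Subgroup G} {z a : G} {S : St Q Q' z a} {d : Gen S}

namespace Oct

variable (o : Oct d)

/-- The subgroup of order `2^11`. -/
noncomputable def A : Subgroup G where
  carrier := {x | ∃ n < 2048, x = ev o.L n}
  one_mem' := ⟨0, by norm_num, (ev_zero _).symm⟩
  mul_mem' := by
    rintro _ _ ⟨m, hm, rfl⟩ ⟨n, hn, rfl⟩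
    exact ⟨m ^^^ n, Nat.xor_lt_two_pow (n := 11) hm hn, (ev_xor o.isElem m n).symm⟩
  inv_mem' := by
    rintro _ ⟨m, hm, rfl⟩
    exact ⟨m, hm, inv_eq_of_mul_eq_one_right (ev_self o.isElem m)⟩

theorem mem_A {x : G} : x ∈ o.A ↔ ∃ n < 2048, x = ev o.L n := Iff.rfl

theorem L_mem : ∀ b ∈ o.L, b ∈ o.A := by
  intro b hb
  simp only [L, List.mem_cons, List.not_mem_nil, or_false] at hb
  rcases hb with rfl | rfl | rfl | rfl | rfl | rfl | rfl | rfl | rfl | rfl | rfl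
  exacts [⟨1, by norm_num, by simp [L, ev]⟩, ⟨2, by norm_num, by simp [L, ev]⟩, ⟨4, by norm_num, by simp [L, ev]⟩,
    ⟨8, by norm_num, by simp [L, ev]⟩, ⟨16, by norm_num, by simp [L, ev]⟩, ⟨32, by norm_num, by simp [L, ev]⟩,
    ⟨64, by norm_num, by simp [L, ev]⟩, ⟨128, by norm_num, by simp [L, ev]⟩, ⟨256, by norm_num, by simp [L, ev]⟩,
    ⟨512, by norm_num, by simp [L, ev]⟩, ⟨1024, by norm_num, by simp [L, ev]⟩]

theorem comm_A {x y : G} (hx : x ∈ o.A) (hy : y ∈ o.A) : x * y = y * x := by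
  obtain ⟨m, -, rfl⟩ := hx
  obtain ⟨n, -, rfl⟩ := hy
  rw [← ev_xor o.isElem, ← ev_xor o.isElem, Nat.xor_comm]

theorem z_mem : z ∈ o.A := o.L_mem z (by simp [L])

theorem a_mem : a ∈ o.A := o.L_mem a (by simp [L])

theorem ke_mem : ∀ i, o.ke i ∈ o.A := by
  intro i; fin_cases i <;> exact o.L_mem _ (by simp [L])

theorem ske_mem : ∀ i, d.s * o.ke i * d.s ∈ o.A := by
  intro i; fin_cases i <;> exact o.L_mem _ (by simp [L])

/-! ### The generators in the normalizer -/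

/-- The ten elements. -/
noncomputable def gen : Fin 10 → G :=
  ![d.s, d.q, o.kx 0, o.kx 1, o.kx 2, o.gA, o.gB, d.s * o.kx 0 * d.s, d.s * o.kx 1 * d.s, d.s * o.kx 2 * d.s]

theorem act_mul' {g h : G} {I J : List ℕ} (hg : o.Act g I) (hh : o.Act h J) : o.Act (g * h) (J.map (Cfsg.Agent.Golay.Basic.enc I)) := by
  unfold Act at hh ⊢
  refine List.forall₂_map_right_iff.2 (hh.imp fun b m e => ?_)
  rw [← ev_conj o.isElem g hg m, ← e]
  group

theorem gen_act : ∀ g : Fin 10, o.Act (o.gen g) (Data.imgs.getD g.1 []) := by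
  intro g
  fin_cases g
  · exact o.act_s
  · exact o.act_q
  · exact o.act_kx0
  · exact o.act_kx1
  · exact o.act_kx2
  · exact o.act_gA
  · exact o.act_gB
  · exact o.act_mul' (o.act_mul' o.act_s o.act_kx0) o.act_s
  · exact o.act_mul' (o.act_mul' o.act_s o.act_kx1) o.act_s
  · exact o.act_mul' (o.act_mul' o.act_s o.act_kx2) o.act_s

theorem gen_conj (g : Fin 10) (x : ℕ) : o.gen g * ev o.L x * (o.gen g)⁻¹ = ev o.L (Model.img g.1 x) :=
  ev_conj o.isElem _ (o.gen_act g) x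

theorem mem_normalizer_of {g : G} (h : ∀ x ∈ o.A, g * x * g⁻¹ ∈ o.A) : g ∈ normalizer (o.A : Set G) := by
  refine mem_normalizer_iff_map_conj_eq.2 (eq_of_le_of_card_ge ?_ ?_)
  · rintro _ ⟨x, hx, rfl⟩
    exact h x hx
  · rw [card_map_of_injective (MulAut.conj g).injective]

theorem gen_mem (g : Fin 10) : o.gen g ∈ normalizer (o.A : Set G) := by
  refine o.mem_normalizer_of ?_
  rintro _ ⟨n, -, rfl⟩
  rw [o.gen_conj]
  exact ev_mem _ o.L_mem _

/-! ### Parameters -/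

/-- The part in the core. -/
noncomputable def Lc : List G :=
  [o.ke 0, o.ke 1, o.ke 2, d.s * o.ke 0 * d.s, d.s * o.ke 1 * d.s, d.s * o.ke 2 * d.s, z, a]

theorem ev_split (n : ℕ) : ev o.L n = ev [o.r 0, o.r 1, o.r 2] n * ev o.Lc (n / 8) :=
  ev_append [o.r 0, o.r 1, o.r 2] o.Lc n

theorem word_hb (v : ℕ) : d.Hb (wf v) (ev [o.r 0, o.r 1, o.r 2] v) := by
  have key : ∀ (i : Fin 3) (k : ℕ), d.Hb (if v.testBit k then fR i else id) (o.r i ^ (v / 2 ^ k % 2)) := by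
    intro i k
    rw [Nat.testBit_eq_decide_div_mod_eq]
    rcases Nat.mod_two_eq_zero_or_one (v / 2 ^ k) with e | e <;> rw [e]
    · rw [if_neg (by simp), pow_zero]; exact d.hb_one
    · rw [if_pos (by simp), pow_one]; exact o.hR i
  have h := d.hb_mul (d.hb_mul (key 0 0) (key 1 1)) (key 2 2)
  convert h using 1
  · funext i; simp [wf, Function.comp]
  · simp [ev, Nat.div_div_eq_div_mul, mul_assoc]

/-- The parameters of the part in the core. -/
theorem core_ev (m : ℕ) : S.Core (ev o.Lc m) ∧ S.kap d.s (ev o.Lc m) = ww (pI m) ∧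
    S.par (ev o.Lc m) = ww (pI (m / 8)) := by
  have h1 : ∀ i : Fin 3, S.Core (o.ke i) ∧ S.kap d.s (o.ke i) = ww (eI i) ∧ S.par (o.ke i) = 0 :=
    fun i => d.rep_core (o.ke_rep i)
  have hmul : ∀ {x y : G} {i j k l : Fin 64}, (S.Core x ∧ S.kap d.s x = ww i ∧ S.par x = ww j) →
      (S.Core y ∧ S.kap d.s y = ww k ∧ S.par y = ww l) →
      S.Core (x * y) ∧ S.kap d.s (x * y) = ww (i ^^^ k) ∧ S.par (x * y) = ww (j ^^^ l) := by
    intro x y i j k l hx hy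
    exact ⟨S.core_mul hx.1 hy.1, by rw [S.kap_mul d.hs hx.1 hy.1.1, hx.2.1, hy.2.1, ww_xor],
      by rw [S.par_core_mul hx.1 hy.1.1, hx.2.2, hy.2.2, ww_xor]⟩
  have hpow : ∀ {x : G} {i j : Fin 64} (k : ℕ), (S.Core x ∧ S.kap d.s x = ww i ∧ S.par x = ww j) →
      S.Core (x ^ (m / 2 ^ k % 2)) ∧ S.kap d.s (x ^ (m / 2 ^ k % 2)) = ww (if m.testBit k then i else 0) ∧
        S.par (x ^ (m / 2 ^ k % 2)) = ww (if m.testBit k then j else 0) := by
    intro x i j k hx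
    rw [Nat.testBit_eq_decide_div_mod_eq]
    rcases Nat.mod_two_eq_zero_or_one (m / 2 ^ k) with e | e <;> rw [e]
    · rw [if_neg (by simp), if_neg (by simp), pow_zero, ww_zero]
      have hc : S.Core (1 : G) := S.core_q Q.one_mem (by rw [S.F.vec_one]; rfl)
      exact ⟨hc, by rw [S.kap_q d.hs Q.one_mem (by rw [S.F.vec_one]; rfl), S.F.vec_one, pw_zero], S.par_q Q.one_mem⟩
    · rw [if_pos (by simp), if_pos (by simp), pow_one]; exact hx
  have hk : ∀ i : Fin 3, S.Core (o.ke i) ∧ S.kap d.s (o.ke i) = ww (eI i) ∧ S.par (o.ke i) = ww 0 :=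
    fun i => ⟨(h1 i).1, (h1 i).2.1, by rw [(h1 i).2.2, ww_zero]⟩
  have hsk : ∀ i : Fin 3, S.Core (d.s * o.ke i * d.s) ∧ S.kap d.s (d.s * o.ke i * d.s) = ww 0 ∧
      S.par (d.s * o.ke i * d.s) = ww (eI i) :=
    fun i => ⟨d.core_s (h1 i).1, by rw [d.kap_s, (h1 i).2.2, ww_zero], by rw [d.par_s, (h1 i).2.1]⟩
  have hf : ∀ {x : G}, x ∈ Q → S.F.vec x = 0 ∨ S.F.vec x = e1 →
      S.Core x ∧ S.kap d.s x = ww 0 ∧ S.par x = ww 0 := by
    intro x hx hv
    have hy : y1 (S.F.vec x) = 0 := by rcases hv with e | e <;> rw [e] <;> rfl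
    refine ⟨S.core_q hx hy, ?_, by rw [S.par_q hx, ww_zero]⟩
    rw [S.kap_q d.hs hx hy, ww_zero]
    rcases hv with e | e <;> rw [e]
    exacts [pw_zero, pw_e1]
  have h := hmul (hpow 0 (hk 0)) (hmul (hpow 1 (hk 1)) (hmul (hpow 2 (hk 2)) (hmul (hpow 3 (hsk 0))
    (hmul (hpow 4 (hsk 1)) (hmul (hpow 5 (hsk 2)) (hmul (hpow 6 (hf S.h.z_mem (Or.inl S.F.vec_z)))
      (hpow 7 (hf S.mem_a (Or.inr S.F.vec_a)))))))))
  simp only [ite_self, show ∀ i : Fin 64, i ^^^ 0 = i by decide +kernel,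
    show ∀ i : Fin 64, (0 : Fin 64) ^^^ i = i by decide +kernel] at h
  have e8 : ∀ k, (m / 8).testBit k = m.testBit (k + 3) := fun k => by
    rw [show m / 8 = m >>> 3 by rw [Nat.shiftRight_eq_div_pow], Nat.testBit_shiftRight, add_comm]
  have hassoc : ∀ i j k : Fin 64, i ^^^ (j ^^^ k) = i ^^^ j ^^^ k := fun i j k => by
    apply ww_inj
    rw [← ww_xor, ← ww_xor, ← ww_xor, ← ww_xor, add_assoc]
  convert h using 3
  · simp [Lc, ev, Nat.div_div_eq_div_mul]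
  · simp [Lc, ev, Nat.div_div_eq_div_mul]
  · simp [pI, hassoc, eI]
  · simp [Lc, ev, Nat.div_div_eq_div_mul]
  · simp [pI, hassoc, eI, e8]

/-- The action and parameter of an element of the subgroup. -/
theorem ev_par (n : ℕ) : S.Cen (ev o.L n) ∧ (∀ i, S.bar (ev o.L n) (ww i) = ww (wf (n % 8) i)) ∧
    S.par (ev o.L n) = ww (pI (n / 8 / 8 % 8)) := by
  obtain ⟨hw, hb⟩ := o.word_hb n
  obtain ⟨hc, -, hp⟩ := o.core_ev (n / 8)
  have e8 : ∀ m k : ℕ, k < 3 → (m % 8).testBit k = m.testBit k := fun m k hk => by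
    rw [show (8 : ℕ) = 2 ^ 3 from rfl, Nat.testBit_mod_two_pow]; simp [hk]
  have ew : ∀ i, wf (n % 8) i = wf n i := fun i => by simp [wf, e8 n]
  have ep : ∀ m, pI (m % 8) = pI m := fun m => by simp [pI, e8 m]
  have hcen := S.cen_mul hw.1 hc.1
  refine ⟨by rw [o.ev_split]; exact hcen, fun i => ?_, ?_⟩
  · rw [o.ev_split, S.bar_mul hw.1 hc.1 (inW_ww i), hc.2 _ (inW_ww i), hb, ew]
  · rw [o.ev_split, S.par_mul hw.1 hc.1, (d.lm_par hw).1, zero_add, hp, hb, ep]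
    refine congrArg ww ?_
    rw [← ew, ← ep (n / 8 / 8)]
    exact word_facts.2.2.2.1 ⟨n % 8, Nat.mod_lt _ (by norm_num)⟩ ⟨n / 8 / 8 % 8, Nat.mod_lt _ (by norm_num)⟩

/-! ### Self-centralising -/

/-- An element of `Q` over the plane lies in the subgroup. -/
theorem rep_mem {i : Fin 64} (hi : InP i) {k : G} (hk : d.Rep i k) : k ∈ o.A := by
  have hc : ∀ v : ℕ, d.Rep (pI v) (ev [o.ke 0, o.ke 1, o.ke 2] v) := by
    intro v
    have hpow : ∀ (i : Fin 3) (k : ℕ), d.Rep (if v.testBit k then eI i else 0) (o.ke i ^ (v / 2 ^ k % 2)) := by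
      intro i k
      rw [Nat.testBit_eq_decide_div_mod_eq]
      rcases Nat.mod_two_eq_zero_or_one (v / 2 ^ k) with e | e <;> rw [e]
      · rw [if_neg (by simp), pow_zero]; exact ⟨Q.one_mem, by rw [S.F.vec_one, ww_zero]⟩
      · rw [if_pos (by simp), pow_one]; exact o.ke_rep i
    have h := d.rep_mul (d.rep_mul (hpow 0 0) (hpow 1 1)) (hpow 2 2)
    convert h using 1
    · simp [pI, eI]
    · simp [ev, Nat.div_div_eq_div_mul, mul_assoc]
  obtain ⟨v, rfl⟩ := word_facts.2.2.2.2 i hi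
  obtain ⟨t, rfl⟩ := d.rep_eq (hc v.1) hk
  refine o.A.mul_mem (o.A.pow_mem o.z_mem _) (ev_mem _ (fun b hb => ?_) _)
  simp only [List.mem_cons, List.not_mem_nil, or_false] at hb
  rcases hb with rfl | rfl | rfl <;> exact o.ke_mem _

/-- An element of `Q` over the four-space lies in the subgroup. -/
theorem mem_of_vec {k : G} (hk : k ∈ Q) {i : Fin 64} (hi : InP i) {t : ZMod 2}
    (hv : S.F.vec k = ww i + sm t e1) : k ∈ o.A := by
  have h := o.rep_mem hi (k := k * zp a t) ⟨Q.mul_mem hk (S.zpa_mem t), by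
    rw [S.F.vec_mul hk (S.zpa_mem t), hv, S.vec_zpa, add_assoc, add_self_V, add_zero]⟩
  have := o.A.mul_mem h (o.A.inv_mem (o.A.pow_mem o.a_mem t.val))
  rwa [show k * zp a t * (a ^ t.val)⁻¹ = k by rw [zp, mul_inv_cancel_right]] at this

theorem four_mem (t t' : ZMod 2) : zp z t * zp a t' ∈ o.A :=
  o.A.mul_mem (o.A.pow_mem o.z_mem _) (o.A.pow_mem o.a_mem _)

theorem mem_of_comm {g : G} (hz : g * z = z * g) (ha : g * a = a * g) (hk : ∀ i, g * o.ke i = o.ke i * g) :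
    g ∈ o.A := by
  have hg : S.Cen g := ⟨hz, ha⟩
  have hidx : ∀ i, S.bar g (ww i) = ww (ConwayType.enc (S.bar g (ww i))) := fun i => (ww_enc (S.bar_inW _ _)).symm
  set f : Fin 64 → Fin 64 := fun i => ConwayType.enc (S.bar g (ww i)) with hf
  have hfix : ∀ i, f (eI i) = eI i := fun i => by
    apply ww_inj
    rw [hf, ← hidx]
    have hv := S.vec_conj hz (o.ke_rep i).1
    rw [hk i, mul_inv_cancel_right, (o.ke_rep i).2] at hv
    rw [St.bar, ← hv, pw_eq (inW_ww _)]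
  have hadd : ∀ i j, f (i ^^^ j) = f i ^^^ f j := fun i j => by
    apply ww_inj
    rw [hf, ← hidx, ← ww_xor, ← ww_xor, ← hidx, ← hidx, S.bar_add]
  have hshift : ∀ j, ∃ u : Fin 8, f (dI j) = dI j ^^^ pI u.1 := fun j => perp_shift _ j fun m => by
    conv_lhs => rw [← hfix m, hf, ← hidx, ← hidx, S.bar_bf hg (inW_ww _) (inW_ww _)]
  obtain ⟨u0, h0⟩ := hshift 0
  obtain ⟨u1, h1⟩ := hshift 1
  obtain ⟨u2, h2⟩ := hshift 2
  have hq : ∀ j, qf (ww (f (dI j))) = 0 := fun j => by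
    rw [hf, ← hidx, S.bar_qf hg (inW_ww _), plane_facts.2.2.2.1]
  have hb : ∀ i j, bf (ww (f (dI i))) (ww (f (dI j))) = 0 := fun i j => by
    rw [hf, ← hidx, ← hidx, S.bar_bf hg (inW_ww _) (inW_ww _), plane_facts.2.2.2.2.1]
  obtain ⟨v, v0, v1, v2⟩ := fix_word u0 u1 u2 ⟨h0 ▸ hq 0, h1 ▸ hq 1, h2 ▸ hq 2, h0 ▸ h1 ▸ hb 0 1,
    h1 ▸ h2 ▸ hb 1 2, h0 ▸ h2 ▸ hb 0 2⟩
  set w := ev [o.r 0, o.r 1, o.r 2] v.1
  obtain ⟨hw, hwb⟩ := o.word_hb v.1
  have hwadd : ∀ i j, wf v.1 (i ^^^ j) = wf v.1 i ^^^ wf v.1 j := fun i j => by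
    apply ww_inj
    rw [← hwb, ← ww_xor, ← ww_xor, ← hwb, ← hwb, S.bar_add]
  have hwe : ∀ i, wf v.1 (eI i) = eI i := fun i => by
    obtain ⟨p, hp⟩ := word_facts.2.2.2.2 _ (plane_facts.1 i)
    rw [← hp]; exact word_facts.2.2.2.1 v p
  have hall : ∀ i, f i = wf v.1 i := by
    intro i
    have hz0 : f 0 = wf v.1 0 := by
      have e1 := hadd 0 0
      have e2 := hwadd 0 0
      rw [show (0 : Fin 64) ^^^ 0 = 0 from rfl] at e1 e2
      have hx : ∀ x : Fin 64, x = x ^^^ x → x = 0 := by decide +kernel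
      rw [hx _ e1, hx _ e2]
    have hd : ∀ j, f (dI j) = wf v.1 (dI j) := by
      intro j; fin_cases j
      exacts [h0.trans v0.symm, h1.trans v1.symm, h2.trans v2.symm]
    obtain ⟨e, p1, p2, p3, p4, p5, p6⟩ := six_span i
    rw [e, hadd, hadd, hadd, hadd, hadd, hwadd, hwadd, hwadd, hwadd, hwadd]
    have key : ∀ {x y : Fin 64}, (x = 0 ∨ x = y) → f y = wf v.1 y → f x = wf v.1 x := fun {x y} h e => by
      rcases h with rfl | rfl
      exacts [hz0, e]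
    rw [key p1 (by rw [hfix, hwe]), key p2 (by rw [hfix, hwe]), key p3 (by rw [hfix, hwe]), key p4 (hd 0),
      key p5 (hd 1), key p6 (hd 2)]
  have hwA : w ∈ o.A := ev_mem _ (fun b hb => o.L_mem b (by
    simp only [List.mem_cons, List.not_mem_nil, or_false] at hb
    rcases hb with rfl | rfl | rfl <;> simp [L])) _
  have hy : S.Core (w⁻¹ * g) := ⟨S.cen_mul (S.cen_inv hw.1) hg, fun x hx => by
    rw [← ww_enc hx, S.bar_mul (S.cen_inv hw.1) hg (inW_ww _), hidx, show ConwayType.enc (S.bar g (ww (ConwayType.enc x))) = f (ConwayType.enc x)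
      from rfl, hall, ← hwb, S.bar_inv hw.1 (inW_ww _)]⟩
  set y := w⁻¹ * g with hy0
  have hcomm : ∀ i, y * o.ke i = o.ke i * y := fun i => by
    rw [hy0, mul_assoc, hk i, ← mul_assoc, o.comm_A (o.A.inv_mem hwA) (o.ke_mem i), mul_assoc]
  have hperp : ∀ i, bf (S.par y) (ww (eI i)) = 0 ∧ bf (S.kap d.s y) (ww (eI i)) = 0 := fun i => by
    obtain ⟨hc, hκ, hπ⟩ := d.rep_core (o.ke_rep i)
    obtain ⟨e1, e2⟩ := (S.core_comm_iff d.hs hy hc).1 (hcomm i)
    rw [hκ, hπ, bf_zero_right] at e1 e2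
    rw [bf_zero_right, add_zero, add_zero] at e2
    rw [e2, add_zero, add_zero] at e1
    exact ⟨e2, e1⟩
  have hκ : InP (ConwayType.enc (S.kap d.s y)) :=
    perp_plane _ fun i => by rw [ww_enc (show InW (S.kap d.s y) from S.inW_par _)]; exact (hperp i).2
  have hπ : InP (ConwayType.enc (S.par y)) :=
    perp_plane _ fun i => by rw [ww_enc (S.inW_par _)]; exact (hperp i).1
  obtain ⟨p, hp⟩ := word_facts.2.2.2.2 _ hκ
  obtain ⟨q, hq'⟩ := word_facts.2.2.2.2 _ hπ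
  obtain ⟨hc, hck, hcp⟩ := o.core_ev (p.1 + 8 * q.1)
  have e8 : ∀ m k : ℕ, k < 3 → (m % 8).testBit k = m.testBit k := fun m k hk => by
    rw [show (8 : ℕ) = 2 ^ 3 from rfl, Nat.testBit_mod_two_pow]; simp [hk]
  have em : pI (p.1 + 8 * q.1) = pI p.1 := by
    have : pI ((p.1 + 8 * q.1) % 8) = pI (p.1 + 8 * q.1) := by simp only [pI, e8 _ 0 (by norm_num), e8 _ 1 (by norm_num), e8 _ 2 (by norm_num)]
    rw [← this, Nat.add_mul_mod_self_left, Nat.mod_eq_of_lt p.2]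
  have ed : (p.1 + 8 * q.1) / 8 = q.1 := by omega
  set x := ev o.Lc (p.1 + 8 * q.1)
  have hxA : x ∈ o.A := ev_mem _ (fun b hb => o.L_mem b (by
    simp only [Lc, List.mem_cons, List.not_mem_nil, or_false] at hb
    rcases hb with rfl | rfl | rfl | rfl | rfl | rfl | rfl | rfl <;> simp [L])) _
  have hdiff := S.core_mul hy (S.core_inv hc)
  have f1 := S.kap_mul d.hs hdiff hc.1
  have f2 := S.par_core_mul hdiff hc.1
  rw [inv_mul_cancel_right, hck, em, hp, ww_enc (show InW (S.kap d.s y) from S.inW_par _), right_eq_add] at f1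
  rw [inv_mul_cancel_right, hcp, ed, hq', ww_enc (S.inW_par _), right_eq_add] at f2
  obtain ⟨t, t', ht⟩ := S.core_zero d.hs hdiff f1 f2
  have : w * ((y * x⁻¹) * x) ∈ o.A := o.A.mul_mem hwA (o.A.mul_mem (ht ▸ o.four_mem t t') hxA)
  rwa [inv_mul_cancel_right, hy0, mul_inv_cancel_left] at this

/-- An element of `C(z)` preserving the four-space normalises the subgroup. -/
theorem mem_normalizer_of_U {c : G} (hc : c * z = z * c)
    (hU : ∀ k ∈ Q, (∃ i, InP i ∧ ∃ t, S.F.vec k = ww i + sm t e1) →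
      ∃ i, InP i ∧ ∃ t, S.F.vec (c⁻¹ * k * c) = ww i + sm t e1) :
    c ∈ normalizer (o.A : Set G) := by
  refine o.mem_normalizer_of fun x hx => ?_
  have hback : ∀ k ∈ Q, (∃ i, InP i ∧ ∃ t, S.F.vec k = ww i + sm t e1) → c⁻¹ * k * c ∈ o.A := by
    intro k hk hv
    obtain ⟨i, hi, t, e⟩ := hU k hk hv
    refine o.mem_of_vec ?_ hi e
    simpa using S.h.conj_mem (inv_z hc) hk
  have key : ∀ k ∈ Q, (∃ i, InP i ∧ ∃ t, S.F.vec k = ww i + sm t e1) →
      c * x * c⁻¹ * k = k * (c * x * c⁻¹) := by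
    intro k hk hv
    calc c * x * c⁻¹ * k = c * (x * (c⁻¹ * k * c)) * c⁻¹ := by group
      _ = c * ((c⁻¹ * k * c) * x) * c⁻¹ := by rw [o.comm_A hx (hback k hk hv)]
      _ = _ := by group
  refine o.mem_of_comm (key z S.h.z_mem ⟨0, by decide +kernel, 0, ?_⟩)
    (key a S.mem_a ⟨0, by decide +kernel, 1, ?_⟩)
    fun i => key _ (o.ke_rep i).1 ⟨eI i, plane_facts.1 i, 0, by rw [(o.ke_rep i).2, sm_zero, add_zero]⟩
  · rw [S.F.vec_z, ww_zero, sm_zero, add_zero]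
  · rw [S.F.vec_a, ww_zero, sm_one, zero_add]

end Oct

end Cfsg.Agent.ConwayType.Octad
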